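import Groth.Agent.Misc12.Cliff.Dickson
import Mathlib.LinearAlgebra.Matrix.ToLin
import Mathlib.LinearAlgebra.Determinant

/-!
Passing from localisations to the base ring: a global separability element, and elements of the centre of the even part.
-/

set_option autoImplicit false
set_option linter.unusedSectionVars false

noncomputable section

open scoped TensorProduct
open QuadraticMap CliffordAlgebra MulOpposite

universe u v w

namespace Groth.Misc12.Cliff

variable {R : Type u} [CommRing R] {M : Type v} [AddCommGroup M] [Module R M] {Q : QuadraticForm R M}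
  [Module.Free R M] [Module.Finite R M]

section Loc

variable (P : Ideal R) [P.IsPrime]

theorem exists_bc_eq_smul (X : CliffordAlgebra (QA Q (Localization.AtPrime P))) :
    ∃ y : CliffordAlgebra Q, ∃ s ∉ P, bc Q (Localization.AtPrime P) y = algebraMap R (Localization.AtPrime P) s • X := by
  classical
  haveI := free Q
  haveI := finite Q
  let c := Module.Free.chooseBasis R (CliffordAlgebra Q)
  obtain ⟨⟨s, hs⟩, hb⟩ := IsLocalization.exist_integer_multiples_of_finite P.primeCompl
    (fun i => (bcBasis Q (Localization.AtPrime P) c).repr X i)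
  choose r hr using hb
  refine ⟨∑ i, r i • c i, s, hs, ?_⟩
  conv_rhs => rw [← (bcBasis Q (Localization.AtPrime P) c).sum_repr X, Finset.smul_sum]
  rw [map_sum]
  refine Finset.sum_congr rfl fun i _ => ?_
  rw [map_smul, bcBasis_apply, smul_smul, ← Algebra.smul_def]
  change r i • _ = (s • (bcBasis Q (Localization.AtPrime P) c).repr X i) • _
  rw [← hr i, algebraMap_smul]

theorem exists_smul_eq_zero {x : CliffordAlgebra Q} (hx : bc Q (Localization.AtPrime P) x = 0) : ∃ s ∉ P, s • x = 0 := by
  classical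
  haveI := free Q
  haveI := finite Q
  let c := Module.Free.chooseBasis R (CliffordAlgebra Q)
  have h : ∀ i, ∃ s : P.primeCompl, (s : R) * c.repr x i = 0 := fun i => by
    refine (IsLocalization.map_eq_zero_iff P.primeCompl (Localization.AtPrime P) (c.repr x i)).1 ?_
    rw [← bcBasis_repr Q (Localization.AtPrime P) c x i, hx, map_zero]
    rfl
  choose s hs using h
  refine ⟨∏ i, (s i : R), (∏ i, s i).2 |> fun h => by simpa using h, c.ext_elem fun i => ?_⟩
  rw [map_smul, Finsupp.smul_apply, smul_eq_mul, map_zero, Finsupp.zero_apply,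
    ← Finset.prod_erase_mul _ _ (Finset.mem_univ i), mul_assoc, hs, mul_zero]

theorem isUnit_algebraMap_of_notMem {s : R} (hs : s ∉ P) : IsUnit (algebraMap R (Localization.AtPrime P) s) :=
  IsLocalization.map_units (Localization.AtPrime P) (⟨s, hs⟩ : P.primeCompl)

theorem smul_left_cancel_loc {s : R} (hs : s ∉ P) {X Y : CliffordAlgebra (QA Q (Localization.AtPrime P))}
    (h : algebraMap R (Localization.AtPrime P) s • X = algebraMap R (Localization.AtPrime P) s • Y) : X = Y :=
  (isUnit_algebraMap_of_notMem P hs).smul_left_cancel.1 h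

/-- Preimage, up to a denominator, of a homogeneous element. -/
theorem exists_bc_eq_smul_mem {i : ZMod 2} {X : CliffordAlgebra (QA Q (Localization.AtPrime P))}
    (hX : X ∈ evenOdd (QA Q (Localization.AtPrime P)) i) :
    ∃ y ∈ evenOdd Q i, ∃ s ∉ P, bc Q (Localization.AtPrime P) y = algebraMap R (Localization.AtPrime P) s • X := by
  obtain ⟨y, s, hs, hy⟩ := exists_bc_eq_smul P X
  set y0 : CliffordAlgebra Q := ↑(DirectSum.decompose (evenOdd Q) y 0) with hy0
  set y1 : CliffordAlgebra Q := ↑(DirectSum.decompose (evenOdd Q) y 1) with hy1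
  have h0 : y0 ∈ evenOdd Q 0 := SetLike.coe_mem _
  have h1 : y1 ∈ evenOdd Q 1 := SetLike.coe_mem _
  have hb0 := bc_mem_evenOdd Q (Localization.AtPrime P) h0
  have hb1 := bc_mem_evenOdd Q (Localization.AtPrime P) h1
  have hsum : bc Q (Localization.AtPrime P) y0 + bc Q (Localization.AtPrime P) y1 =
      algebraMap R (Localization.AtPrime P) s • X := by
    rw [← map_add, ← hy, ← sum_decompose y]
  have hsX : algebraMap R (Localization.AtPrime P) s • X ∈ evenOdd (QA Q (Localization.AtPrime P)) i :=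
    Submodule.smul_mem _ _ hX
  rcases (by decide : ∀ j : ZMod 2, j = 0 ∨ j = 1) i with rfl | rfl
  · refine ⟨y0, h0, s, hs, ?_⟩
    have : bc Q (Localization.AtPrime P) y1 = 0 := by
      refine eq_zero_of_mem_mem ?_ hb1
      rw [← hsum] at hsX
      simpa using sub_mem hsX hb0
    rw [← hsum, this, add_zero]
  · refine ⟨y1, h1, s, hs, ?_⟩
    have : bc Q (Localization.AtPrime P) y0 = 0 := by
      refine eq_zero_of_mem_mem hb0 ?_
      rw [← hsum] at hsX
      simpa using sub_mem hsX hb1
    rw [← hsum, this, zero_add]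

end Loc

theorem eq_of_forall_bc_eq {x y : CliffordAlgebra Q}
    (h : ∀ (P : Ideal R) [P.IsMaximal], bc Q (Localization.AtPrime P) x = bc Q (Localization.AtPrime P) y) : x = y := by
  rw [← sub_eq_zero]
  by_contra hne
  have htop : LinearMap.ker (LinearMap.toSpanSingleton R _ (x - y)) ≠ ⊤ := by
    intro htop
    apply hne
    have : (1 : R) ∈ LinearMap.ker (LinearMap.toSpanSingleton R _ (x - y)) := by rw [htop]; trivial
    simpa using this
  obtain ⟨P, hP, hle⟩ := Ideal.exists_le_maximal _ htop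
  obtain ⟨s, hs, hsx⟩ := exists_smul_eq_zero P (x := x - y) (by rw [map_sub, h P, sub_self])
  exact hs (hle (by simpa using hsx))

theorem cmap_bc (A : Type w) [CommRing A] [Algebra R A] {g : M ≃ₗ[R] M} (hg : g ∈ QuadGrp.O Q) (x : CliffordAlgebra Q) :
    bc Q A (cmap hg x) = cmap (baseChange_mem_O A hg) (bc Q A x) := by
  have : (bc Q A).comp (cmap hg) = ((cmap (baseChange_mem_O A hg)).restrictScalars R).comp (bc Q A) := by
    apply CliffordAlgebra.hom_ext
    ext v
    simp only [LinearMap.comp_apply, AlgHom.toLinearMap_apply, AlgHom.comp_apply, AlgHom.restrictScalars_apply, bc_ι,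
      cmap_ι, LinearEquiv.baseChange_tmul]
  exact DFunLike.congr_fun this x

theorem det_baseChange_eq (A : Type w) [CommRing A] [Algebra R A] (g : M ≃ₗ[R] M) :
    LinearMap.det (g.baseChange R A M M).toLinearMap = algebraMap R A (LinearMap.det g.toLinearMap) :=
  LinearMap.det_baseChange g.toLinearMap

/-- `z` over a local algebra. -/
theorem exists_isZ_loc (hQ : QuadGrp.IsRegular Q) {m : ℕ} (hM : Module.finrank R M = 2 * m)
    (A : Type w) [CommRing A] [Algebra R A] [IsLocalRing A] : ∃ z, IsZ (QA Q A) z := by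
  have : Nontrivial R := (algebraMap R A).domain_nontrivial
  obtain ⟨P⟩ := exists_planes (Q := QA Q A) (isRegular_QA Q A hQ) (m := m) (by rw [Module.finrank_baseChange, hM])
  exact P.exists_isZ (by rw [Module.finrank_baseChange, hM])

theorem local_cases (hQ : QuadGrp.IsRegular Q) {m : ℕ} (hM : Module.finrank R M = 2 * m) {g : M ≃ₗ[R] M}
    (hg : g ∈ QuadGrp.O Q) (A : Type w) [CommRing A] [Algebra R A] [IsLocalRing A] :
    ∃ z, IsZ (QA Q A) z ∧ ((QuadGrp.IsDicksonTrivial (QA Q A) _ (baseChange_mem_O A hg) ∧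
        algebraMap R A (LinearMap.det g.toLinearMap) = 1 ∧ ∃ u : (CliffordAlgebra (QA Q A))ˣ,
          (u : CliffordAlgebra (QA Q A)) ∈ evenOdd (QA Q A) 0 ∧
            ∀ v, (u : CliffordAlgebra (QA Q A)) * ι (QA Q A) v = ι (QA Q A) (g.baseChange R A M M v) * u) ∨
      (algebraMap R A (LinearMap.det g.toLinearMap) = -1 ∧ cmap (baseChange_mem_O A hg) z = 1 - z ∧
        ∃ u : (CliffordAlgebra (QA Q A))ˣ,
          (u : CliffordAlgebra (QA Q A)) ∈ evenOdd (QA Q A) 1 ∧
            ∀ v, (u : CliffordAlgebra (QA Q A)) * ι (QA Q A) v = -(ι (QA Q A) (g.baseChange R A M M v) * u))) := by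
  have : Nontrivial R := (algebraMap R A).domain_nontrivial
  obtain ⟨z, hz⟩ := exists_isZ_loc hQ hM A
  refine ⟨z, hz, ?_⟩
  rw [← det_baseChange_eq]
  rcases local_dichotomy (baseChange_mem_O A hg) (isRegular_QA Q A hQ) (m := m) (by rw [Module.finrank_baseChange, hM]) hz with
    ⟨ht, hd, hu⟩ | ⟨-, hd, hc, hu⟩
  · exact Or.inl ⟨ht, hd, hu⟩
  · exact Or.inr ⟨hd, hc, hu⟩

/-- If `g` is Dickson trivial, only the even case happens in the localisations. -/
theorem not_odd_of_isDicksonTrivial (hQ : QuadGrp.IsRegular Q) {m : ℕ} (hM : Module.finrank R M = 2 * m)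
    {g : M ≃ₗ[R] M} {hg : g ∈ QuadGrp.O Q} (ht : QuadGrp.IsDicksonTrivial Q g hg) (P : Ideal R) [P.IsPrime]
    {z : CliffordAlgebra (QA Q (Localization.AtPrime P))} (hz : IsZ (QA Q (Localization.AtPrime P)) z) :
    cmap (baseChange_mem_O (Localization.AtPrime P) hg) z ≠ 1 - z := by
  classical
  intro hc
  let A := Localization.AtPrime P
  let b := Module.Free.chooseBasis R M
  obtain ⟨y, hy0, s, hs, hy⟩ := exists_bc_eq_smul_mem P hz.even
  let d : Module.Free.ChooseBasisIndex R M × Module.Free.ChooseBasisIndex R M → CliffordAlgebra Q := fun p =>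
    y * (ι Q (b p.1) * ι Q (b p.2)) - ι Q (b p.1) * ι Q (b p.2) * y
  have hd : ∀ p, bc Q A (d p) = 0 := fun p => by
    simp only [d, A, map_sub, map_mul, hy, smul_mul_assoc, mul_smul_comm, bc_ι]
    rw [hz.commute_even (ι_mul_ι_mem_evenOdd_zero _ _ _), sub_self]
  choose t ht' htd using fun p => exists_smul_eq_zero P (hd p)
  have hT : ∏ p, t p ∉ P := by
    intro hmem
    obtain ⟨p, -, hp⟩ := (Ideal.IsPrime.prod_mem_iff (p := P)).1 hmem
    exact ht' p hp
  set Y := (∏ p, t p) • y with hY
  have hpair : ∀ p : Module.Free.ChooseBasisIndex R M × Module.Free.ChooseBasisIndex R M, Y * (ι Q (b p.1) * ι Q (b p.2)) = ι Q (b p.1) * ι Q (b p.2) * Y := fun p => by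
    rw [← sub_eq_zero, hY, smul_mul_assoc, mul_smul_comm, ← smul_sub,
      show y * (ι Q (b p.1) * ι Q (b p.2)) - ι Q (b p.1) * ι Q (b p.2) * y = d p from rfl,
      ← Finset.prod_erase_mul _ _ (Finset.mem_univ p), mul_smul, htd p, smul_zero]
  have hpair2 : ∀ v w, Commute Y (ι Q v * ι Q w) := fun v w => by
    rw [← b.sum_repr v, ← b.sum_repr w]
    simp only [map_sum, map_smul, Finset.sum_mul, Finset.mul_sum, smul_mul_assoc, mul_smul_comm, smul_smul]
    exact Commute.sum_right _ _ _ fun i _ => Commute.smul_right (Commute.sum_right _ _ _ fun j _ => Commute.smul_right (hpair (j, i)) _) _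
  have hcomm : ∀ x ∈ evenOdd Q 0, Commute Y x := by
    intro x hx
    induction x, hx using CliffordAlgebra.even_induction with
    | algebraMap r => exact (Algebra.commutes r Y).symm
    | add x y _ _ hx hy => exact hx.add_right hy
    | ι_mul_ι_mul m₁ m₂ x _ hx => exact (hpair2 m₁ m₂).mul_right hx
  have hfix : cmap hg Y = Y := by
    refine ht ⟨Y, Submodule.smul_mem _ _ hy0⟩ (Subalgebra.mem_center_iff.2 fun x => Subtype.ext ?_)
    exact (hcomm x.1 x.2).eq.symm
  have := cmap_bc A hg Y
  rw [hfix, hY, map_smul, hy, ← algebraMap_smul A, smul_smul, ← map_mul, map_smul, hc] at this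
  exact hz.ne_one_sub (smul_left_cancel_loc P (Ideal.IsPrime.mul_notMem ‹_› hT hs) this).symm

section Sep

variable {I : Type*} [Fintype I] [DecidableEq I]

/-- The matrix of `a ⊗ b ↦ (y ↦ a y b)`. -/
def muMat (c : Module.Basis I R (CliffordAlgebra Q)) : Matrix (I × I) (I × I) R :=
  Matrix.of fun lk ij => c.repr (c ij.1 * c lk.2 * c ij.2) lk.1

theorem muMat_eq (c : Module.Basis I R (CliffordAlgebra Q)) :
    LinearMap.toMatrix (c.tensorProduct (c.map (opLinearEquiv R : CliffordAlgebra Q ≃ₗ[R] (CliffordAlgebra Q)ᵐᵒᵖ))) c.end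
      (sand (AlgHom.id R (CliffordAlgebra Q)) (AlgHom.id R (CliffordAlgebra Q))).toLinearMap = muMat c := by
  ext ⟨l, k⟩ ⟨i, j⟩
  rw [LinearMap.toMatrix_apply, Module.Basis.tensorProduct_apply, Module.Basis.map_apply]
  simp [muMat, Module.Basis.end, Module.Basis.linearMap_repr_apply, Matrix.stdBasis, LinearMap.toMatrix_apply, sand_tmul]

theorem sand_id_bijective_of_isUnit (c : Module.Basis I R (CliffordAlgebra Q)) (h : IsUnit (muMat c).det) :
    Function.Bijective (sand (AlgHom.id R (CliffordAlgebra Q)) (AlgHom.id R (CliffordAlgebra Q))) := by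
  rw [← muMat_eq] at h
  exact (LinearEquiv.ofIsUnitDet h).bijective

theorem isUnit_det_muMat (c : Module.Basis I R (CliffordAlgebra Q))
    (h : Function.Bijective (sand (AlgHom.id R (CliffordAlgebra Q)) (AlgHom.id R (CliffordAlgebra Q)))) :
    IsUnit (muMat c).det := by
  rw [← muMat_eq]
  exact LinearEquiv.isUnit_det (LinearEquiv.ofBijective
    (sand (AlgHom.id R (CliffordAlgebra Q)) (AlgHom.id R (CliffordAlgebra Q))).toLinearMap h) _ _

theorem muMat_bc (A : Type w) [CommRing A] [Algebra R A] (c : Module.Basis I R (CliffordAlgebra Q)) :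
    muMat (bcBasis Q A c) = (muMat c).map (algebraMap R A) := by
  ext lk ij
  simp only [muMat, Matrix.of_apply, Matrix.map_apply, bcBasis_apply, ← map_mul, bcBasis_repr]

end Sep

theorem exists_sep_global (hQ : QuadGrp.IsRegular Q) {m : ℕ} (hM : Module.finrank R M = 2 * m) :
    ∃ p : CliffordAlgebra Q ⊗[R] (CliffordAlgebra Q)ᵐᵒᵖ, IsSep p := by
  classical
  haveI := free Q
  haveI := finite Q
  let c := Module.Free.chooseBasis R (CliffordAlgebra Q)
  have hdet : IsUnit (muMat c).det := by
    by_contra h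
    obtain ⟨P, hP, hle⟩ := Ideal.exists_le_maximal (Ideal.span {(muMat c).det}) (by rwa [Ne, Ideal.span_singleton_eq_top])
    obtain ⟨z, hz⟩ := exists_isZ_loc hQ hM (Localization.AtPrime P)
    have hb := sand_id_bijective (QA Q (Localization.AtPrime P)) (isRegular_QA Q (Localization.AtPrime P) hQ) hz.W hz.anti_W
    have h1 := isUnit_det_muMat (bcBasis Q (Localization.AtPrime P) c) hb.1
    rw [muMat_bc, ← RingHom.mapMatrix_apply, ← RingHom.map_det, IsLocalization.AtPrime.isUnit_to_map_iff _ P] at h1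
    exact h1 (hle (Ideal.mem_span_singleton_self _))
  have hbij := sand_id_bijective_of_isUnit c hdet
  let f : Module.End R (CliffordAlgebra Q) :=
    (Algebra.linearMap R _) ∘ₗ ((ExteriorAlgebra.algebraMapInv (R := R) (M := M)).toLinearMap ∘ₗ (toExt Q).toLinearMap)
  have hf : ∀ y, f y ∈ Set.range (algebraMap R (CliffordAlgebra Q)) := fun y => ⟨_, rfl⟩
  obtain ⟨p, hp⟩ := hbij.2 f
  refine ⟨p, fun x => hbij.1 (LinearMap.ext fun y => ?_), ?_, fun y => by rw [hp]; exact hf y⟩
  · obtain ⟨r, hr⟩ := hf y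
    simp only [map_mul, Module.End.mul_apply, hp, ← hr, sand_tmul, AlgHom.id_apply, unop_op, unop_one, mul_one, one_mul]
    exact (Algebra.commutes r x).symm
  · rw [hp]
    change algebraMap R _ (ExteriorAlgebra.algebraMapInv (toExt Q 1)) = 1
    rw [← map_one (algebraMap R (CliffordAlgebra Q)), toExt_algebraMap, AlgHom.commutes]
    simp

end Groth.Misc12.Cliff
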