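import Groth.Prelude.Def_QuadGrp
import Mathlib.LinearAlgebra.CliffordAlgebra.Contraction
import Mathlib.LinearAlgebra.CliffordAlgebra.Grading
import Mathlib.LinearAlgebra.ExteriorAlgebra.Basis
import Mathlib.RingTheory.TensorProduct.Free
import Mathlib.LinearAlgebra.QuadraticForm.TensorProduct
import Mathlib.RingTheory.OrzechProperty
import Mathlib.LinearAlgebra.Dual.Lemmas

/-!
Clifford algebras of forms on free modules: freeness, the joint kernel of the contractions, supercommutators with
vectors, and base change along an arbitrary algebra.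
-/

set_option autoImplicit false
set_option linter.unusedSectionVars false

noncomputable section

open scoped TensorProduct
open CliffordAlgebra

universe u v w

namespace Groth.Misc12.Cliff

variable {R : Type u} [CommRing R] {M : Type v} [AddCommGroup M] [Module R M]

/-! ### The exterior algebra -/

section Ext

variable {κ : Type*} (e : κ → M) (φ : κ → Module.Dual R M)

/-- The algebra endomorphism induced by `v ↦ v - φ i v • e i`. -/
def killOne (i : κ) : ExteriorAlgebra R M →ₐ[R] ExteriorAlgebra R M :=
  ExteriorAlgebra.lift R ⟨(ExteriorAlgebra.ι R).comp (LinearMap.id - (φ i).smulRight (e i)),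
    fun v => ExteriorAlgebra.ι_sq_zero _⟩

theorem killOne_ι (i : κ) (v : M) : killOne e φ i (ExteriorAlgebra.ι R v) = ExteriorAlgebra.ι R (v - φ i v • e i) := by
  simp only [killOne, ExteriorAlgebra.lift_ι_apply]
  rfl

theorem killOne_apply (i : κ) (x : ExteriorAlgebra R M) :
    killOne e φ i x = x - ExteriorAlgebra.ι R (e i) * contractLeft (Q := (0 : QuadraticForm R M)) (φ i) x := by
  induction x using CliffordAlgebra.left_induction with
  | algebraMap r => simp
  | add x y hx hy => rw [map_add, hx, hy, map_add, mul_add]; abel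
  | ι_mul x v hx =>
    rw [map_mul, hx, contractLeft_ι_mul]
    rw [show CliffordAlgebra.ι (0 : QuadraticForm R M) v = ExteriorAlgebra.ι R v from rfl, killOne_ι, map_sub, map_smul]
    have h0 : ExteriorAlgebra.ι R (e i) * ExteriorAlgebra.ι R (e i) = 0 := ExteriorAlgebra.ι_sq_zero _
    have hswap : ExteriorAlgebra.ι R (e i) * ExteriorAlgebra.ι R v = -(ExteriorAlgebra.ι R v * ExteriorAlgebra.ι R (e i)) :=
      eq_neg_of_add_eq_zero_left (ExteriorAlgebra.ι_add_mul_swap _ _)
    simp only [sub_mul, mul_sub, smul_mul_assoc, mul_smul_comm, ← mul_assoc, h0, hswap, zero_mul, smul_zero, neg_mul,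
      sub_zero]
    abel

variable [Fintype κ] (hdual : ∀ v, ∑ i, φ i v • e i = v) (horth : ∀ i j, i ≠ j → φ i (e j) = 0)

include hdual horth in
theorem ext_mem_range_of_contract_eq_zero (x : ExteriorAlgebra R M)
    (h : ∀ i, contractLeft (Q := (0 : QuadraticForm R M)) (φ i) x = 0) :
    x ∈ Set.range (algebraMap R (ExteriorAlgebra R M)) := by
  classical
  let Ψ : List κ → ExteriorAlgebra R M →ₐ[R] ExteriorAlgebra R M := fun l =>
    l.foldr (fun i f => (killOne e φ i).comp f) (AlgHom.id R _)
  have hfix : ∀ l, Ψ l x = x := by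
    intro l
    induction l with
    | nil => rfl
    | cons i l ih =>
      change killOne e φ i (Ψ l x) = x
      rw [ih, killOne_apply, h i, mul_zero, sub_zero]
  have hgen : ∀ l : List κ, l.Nodup → ∀ v, Ψ l (ExteriorAlgebra.ι R v) =
      ExteriorAlgebra.ι R (v - ∑ i ∈ l.toFinset, φ i v • e i) := by
    intro l hl v
    induction l with
    | nil => simp [Ψ]
    | cons i l ih =>
      obtain ⟨hi, hl'⟩ := List.nodup_cons.1 hl
      change killOne e φ i (Ψ l (ExteriorAlgebra.ι R v)) = _
      rw [ih hl', killOne_ι, List.toFinset_cons, Finset.sum_insert (by simpa using hi)]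
      congr 1
      have h0 : φ i (∑ j ∈ l.toFinset, φ j v • e j) = 0 := by
        rw [map_sum, Finset.sum_eq_zero]
        intro j hj
        rw [map_smul, horth i j (fun hij => hi (by rw [hij]; simpa using hj)), smul_zero]
      rw [map_sub, h0, sub_zero]
      abel
  have hΨ : Ψ Finset.univ.toList = (Algebra.ofId R _).comp ExteriorAlgebra.algebraMapInv := by
    apply ExteriorAlgebra.hom_ext
    ext v
    simp only [LinearMap.comp_apply, AlgHom.toLinearMap_apply, AlgHom.comp_apply]
    rw [hgen _ (Finset.nodup_toList _), Finset.toList_toFinset, hdual, sub_self, map_zero]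
    simp [ExteriorAlgebra.algebraMapInv]
  exact ⟨ExteriorAlgebra.algebraMapInv x, by conv_rhs => rw [← hfix Finset.univ.toList, hΨ]
                                             simp⟩

end Ext

/-! ### Transport to the Clifford algebra -/

section Free

variable [Module.Free R M] (Q : QuadraticForm R M)

theorem exists_toExterior : ∃ B : LinearMap.BilinForm R M, B.toQuadraticMap = (0 : QuadraticForm R M) - Q :=
  LinearMap.BilinMap.toQuadraticMap_surjective _

/-- `C(Q) ≃ Λ M`. -/
def toExt : CliffordAlgebra Q ≃ₗ[R] ExteriorAlgebra R M :=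
  changeFormEquiv (exists_toExterior Q).choose_spec

theorem toExt_algebraMap (r : R) : toExt Q (algebraMap R _ r) = algebraMap R _ r := changeForm_algebraMap (exists_toExterior Q).choose_spec r

theorem toExt_ι (v : M) : toExt Q (ι Q v) = ExteriorAlgebra.ι R v := changeForm_ι (exists_toExterior Q).choose_spec v

theorem toExt_contractLeft (d : Module.Dual R M) (x : CliffordAlgebra Q) :
    toExt Q (contractLeft d x) = contractLeft (Q := (0 : QuadraticForm R M)) d (toExt Q x) :=
  changeForm_contractLeft (exists_toExterior Q).choose_spec d x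

theorem algebraMap_injective : Function.Injective (algebraMap R (CliffordAlgebra Q)) := fun a b h => by
  have := congrArg (toExt Q) h
  rw [toExt_algebraMap, toExt_algebraMap] at this
  exact (ExteriorAlgebra.algebraMap_leftInverse M).injective this

theorem ι_injective : Function.Injective (ι Q) := fun a b h => by
  have := congrArg (toExt Q) h
  rw [toExt_ι, toExt_ι] at this
  exact ExteriorAlgebra.ι_leftInverse.injective this

theorem free : Module.Free R (CliffordAlgebra Q) := by
  classical
  obtain ⟨⟨I, b⟩⟩ := Module.Free.exists_basis R M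
  letI := linearOrderOfSTO (@WellOrderingRel I)
  exact Module.Free.of_equiv' (Module.Free.of_basis b.ExteriorAlgebra) (toExt Q).symm

theorem finite [Module.Finite R M] : Module.Finite R (CliffordAlgebra Q) := by
  classical
  obtain ⟨⟨I, b⟩⟩ := Module.Free.exists_basis R M
  rcases subsingleton_or_nontrivial R with h | h
  · have := Module.subsingleton R (CliffordAlgebra Q)
    infer_instance
  haveI : Finite I := Module.Finite.finite_basis b
  letI := Fintype.ofFinite I
  letI := linearOrderOfSTO (@WellOrderingRel I)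
  haveI := Module.Finite.of_basis b.ExteriorAlgebra
  exact Module.Finite.equiv (toExt Q).symm

theorem mem_range_of_contract_eq_zero [Module.Finite R M] (x : CliffordAlgebra Q)
    (h : ∀ d : Module.Dual R M, contractLeft d x = 0) : x ∈ Set.range (algebraMap R (CliffordAlgebra Q)) := by
  classical
  let b := Module.Free.chooseBasis R M
  obtain ⟨r, hr⟩ := ext_mem_range_of_contract_eq_zero (fun i => b i) (fun i => b.coord i)
    (fun v => by simpa [Module.Basis.coord_apply] using b.sum_repr v)
    (fun i j hij => by simp [Module.Basis.coord_apply, Finsupp.single_eq_of_ne hij])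
    (toExt Q x) (fun i => by rw [← toExt_contractLeft, h, map_zero])
  exact ⟨r, (toExt Q).injective (by rw [toExt_algebraMap]; exact hr)⟩

end Free

/-! ### Supercommutators -/

theorem ι_mul_sub_involute_mul (Q : QuadraticForm R M) (v : M) (x : CliffordAlgebra Q) :
    ι Q v * x - involute x * ι Q v = contractLeft (Q.polarBilin v) x := by
  induction x using CliffordAlgebra.left_induction with
  | algebraMap r => rw [AlgHom.commutes, ← Algebra.commutes, sub_self, contractLeft_algebraMap]
  | add x y hx hy => rw [map_add, map_add, ← hx, ← hy, mul_add, add_mul]; abel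
  | ι_mul x m hx =>
    rw [contractLeft_ι_mul, ← hx, map_mul, involute_ι, ← mul_assoc, mul_sub, ← mul_assoc, ← mul_assoc, neg_mul, neg_mul]
    have h := ι_mul_ι_add_swap (Q := Q) v m
    rw [QuadraticMap.polarBilin_apply_apply, Algebra.smul_def, ← h, add_mul]
    abel

/-- An element which anticommutes with every vector twists the identity into the grading involution. -/
theorem mul_eq_involute_mul (Q : QuadraticForm R M) {W : CliffordAlgebra Q} (hW : ∀ v, ι Q v * W = -(W * ι Q v))
    (x : CliffordAlgebra Q) : W * x = involute x * W := by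
  induction x using CliffordAlgebra.induction with
  | algebraMap r => rw [AlgHom.commutes, ← Algebra.commutes]
  | ι v => rw [involute_ι, neg_mul, hW, neg_neg]
  | mul x y hx hy => rw [map_mul, ← mul_assoc, hx, mul_assoc, hy, mul_assoc]
  | add x y hx hy => rw [map_add, mul_add, add_mul, hx, hy]

/-! ### Base change -/

section BC

variable [Module.Free R M] (Q : QuadraticForm R M) (A : Type w) [CommRing A] [Algebra R A]

/-- The base-changed form. -/
abbrev QA : QuadraticForm A (A ⊗[R] M) := QuadGrp.baseChangeForm A Q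

theorem QA_tmul (a : A) (v : M) : QA Q A (a ⊗ₜ[R] v) = a * a * algebraMap R A (Q v) := by
  rw [QA, QuadGrp.baseChangeForm, LinearMap.compQuadraticMap_apply, QuadGrp.baseChange_tmul]
  simp [Algebra.smul_def, mul_comm]

theorem QA_one_tmul (v : M) : QA Q A ((1 : A) ⊗ₜ[R] v) = algebraMap R A (Q v) := by
  rw [QA_tmul, mul_one, one_mul]

theorem polar_QA (v w : M) :
    QuadraticMap.polar (QA Q A) ((1 : A) ⊗ₜ[R] v) ((1 : A) ⊗ₜ[R] w) = algebraMap R A (QuadraticMap.polar Q v w) := by
  simp only [QuadraticMap.polar, ← TensorProduct.tmul_add, QA_one_tmul, map_sub]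

theorem isRegular_QA [Module.Finite R M] (hQ : QuadGrp.IsRegular Q) : QuadGrp.IsRegular (QA Q A) := by
  classical
  let b := Module.Free.chooseBasis R M
  let bA := Algebra.TensorProduct.basis A b
  have hsurj : Function.Surjective (QuadraticMap.polarBilin (QA Q A)) := by
    intro f
    choose v hv using fun j => hQ.2 (b.coord j)
    refine ⟨∑ j, f ((1 : A) ⊗ₜ[R] b j) • ((1 : A) ⊗ₜ[R] v j), bA.ext fun i => ?_⟩
    simp only [bA, Algebra.TensorProduct.basis_apply, map_sum, map_smul, LinearMap.coe_sum, Finset.sum_apply,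
      LinearMap.smul_apply, QuadraticMap.polarBilin_apply_apply, polar_QA]
    rw [Finset.sum_eq_single i]
    · rw [← QuadraticMap.polarBilin_apply_apply, hv, Module.Basis.coord_apply, b.repr_self, Finsupp.single_eq_same,
        map_one, smul_eq_mul, mul_one]
    · intro j _ hj
      rw [← QuadraticMap.polarBilin_apply_apply, hv, Module.Basis.coord_apply, b.repr_self,
        Finsupp.single_eq_of_ne hj, map_zero, smul_zero]
    · simp
  refine ⟨?_, hsurj⟩
  let Φ : (A ⊗[R] M) →ₗ[A] (A ⊗[R] M) := bA.toDualEquiv.symm.toLinearMap ∘ₗ QuadraticMap.polarBilin (QA Q A)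
  have : Function.Injective Φ :=
    OrzechProperty.injective_of_surjective_endomorphism Φ (bA.toDualEquiv.symm.surjective.comp hsurj)
  exact fun x y h => this (by simp [Φ, h])

/-- The canonical map `C(Q) → C(Q_A)`. -/
def bc : CliffordAlgebra Q →ₐ[R] CliffordAlgebra (QA Q A) :=
  lift Q ⟨((ι (QA Q A)).restrictScalars R).comp (TensorProduct.mk R A M 1), fun v => by
    simp only [LinearMap.comp_apply, LinearMap.coe_restrictScalars, TensorProduct.mk_apply, ι_sq_scalar, QA_one_tmul,
      ← IsScalarTower.algebraMap_apply R A]⟩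

@[simp]
theorem bc_ι (v : M) : bc Q A (ι Q v) = ι (QA Q A) ((1 : A) ⊗ₜ[R] v) := by
  simp [bc]

/-- `A ⊗ C(Q) → C(Q_A)`. -/
def ofBC : A ⊗[R] CliffordAlgebra Q →ₐ[A] CliffordAlgebra (QA Q A) :=
  Algebra.TensorProduct.lift (Algebra.ofId A _) (bc Q A) fun a _ => Algebra.commutes a _

theorem ofBC_tmul (a : A) (x : CliffordAlgebra Q) : ofBC Q A (a ⊗ₜ x) = a • bc Q A x := by
  simp [ofBC, Algebra.smul_def, Algebra.ofId_apply]

/-- `C(Q_A) → A ⊗ C(Q)`. -/
def toBC : CliffordAlgebra (QA Q A) →ₐ[A] A ⊗[R] CliffordAlgebra Q :=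
  lift (QA Q A) ⟨(ι Q).baseChange A, by
    let f := (ι Q).baseChange A
    let S : QuadraticMap A (A ⊗[R] M) (A ⊗[R] CliffordAlgebra Q) :=
      LinearMap.BilinMap.toQuadraticMap ((LinearMap.mul A (A ⊗[R] CliffordAlgebra Q)).compl₁₂ f f)
    have : S = (Algebra.linearMap A _).compQuadraticMap (QA Q A) := by
      refine baseChange_ext fun m => ?_
      rw [LinearMap.compQuadraticMap_apply, QA_one_tmul]
      simp only [S, f, LinearMap.BilinMap.toQuadraticMap_apply, LinearMap.compl₁₂_apply, LinearMap.baseChange_tmul,
        LinearMap.mul_apply', Algebra.TensorProduct.tmul_mul_tmul, ι_sq_scalar, mul_one, Algebra.linearMap_apply]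
      rw [← IsScalarTower.algebraMap_apply, Algebra.TensorProduct.algebraMap_apply, Algebra.algebraMap_eq_smul_one (Q m),
        Algebra.algebraMap_eq_smul_one (Q m), TensorProduct.smul_tmul]
    intro x
    exact QuadraticMap.congr_fun this x⟩

@[simp]
theorem toBC_ι_one_tmul (v : M) : toBC Q A (ι (QA Q A) ((1 : A) ⊗ₜ[R] v)) = 1 ⊗ₜ ι Q v := by
  rw [toBC]
  erw [lift_ι_apply]
  rfl

theorem toBC_bc (x : CliffordAlgebra Q) : toBC Q A (bc Q A x) = 1 ⊗ₜ x := by
  have : ((toBC Q A).restrictScalars R).comp (bc Q A) = Algebra.TensorProduct.includeRight := by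
    apply CliffordAlgebra.hom_ext
    ext v
    simp
  exact DFunLike.congr_fun this x

/-- `C(Q_A) ≃ A ⊗ C(Q)`. -/
def bcEquiv : CliffordAlgebra (QA Q A) ≃ₐ[A] A ⊗[R] CliffordAlgebra Q :=
  AlgEquiv.ofAlgHom (toBC Q A) (ofBC Q A)
    (by
      ext x
      simp [ofBC_tmul, toBC_bc])
    (by
      apply CliffordAlgebra.hom_ext
      ext v
      simp [ofBC_tmul])

/-- A basis of `C(Q)` base changes to a basis of `C(Q_A)`. -/
def bcBasis {I : Type*} (c : Module.Basis I R (CliffordAlgebra Q)) : Module.Basis I A (CliffordAlgebra (QA Q A)) :=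
  (Algebra.TensorProduct.basis A c).map (bcEquiv Q A).symm.toLinearEquiv

theorem bcBasis_repr {I : Type*} (c : Module.Basis I R (CliffordAlgebra Q)) (x : CliffordAlgebra Q) (i : I) :
    (bcBasis Q A c).repr (bc Q A x) i = algebraMap R A (c.repr x i) := by
  simp only [bcBasis, Module.Basis.map_repr, LinearEquiv.trans_apply]
  change (Algebra.TensorProduct.basis A c).repr (toBC Q A (bc Q A x)) i = _
  rw [toBC_bc, Algebra.TensorProduct.basis_repr_tmul]
  simp [Algebra.smul_def]

theorem bcBasis_apply {I : Type*} (c : Module.Basis I R (CliffordAlgebra Q)) (i : I) :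
    bcBasis Q A c i = bc Q A (c i) := by
  simp only [bcBasis, Module.Basis.map_apply, Algebra.TensorProduct.basis_apply]
  change ofBC Q A _ = _
  rw [ofBC_tmul, one_smul]

theorem bc_injective (h : Function.Injective (algebraMap R A)) : Function.Injective (bc Q A) := by
  haveI := free Q
  let c := Module.Free.chooseBasis R (CliffordAlgebra Q)
  intro x y hxy
  refine c.ext_elem fun i => h ?_
  rw [← bcBasis_repr, hxy, bcBasis_repr]

theorem bc_mem_evenOdd {i : ZMod 2} {x : CliffordAlgebra Q} (hx : x ∈ evenOdd Q i) :
    bc Q A x ∈ evenOdd (QA Q A) i := by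
  have key : ∀ n : ℕ, ∀ y ∈ LinearMap.range (ι Q) ^ n, bc Q A y ∈ LinearMap.range (ι (QA Q A)) ^ n := by
    intro n y hy
    induction hy using Submodule.pow_induction_on_left' with
    | algebraMap r =>
      rw [AlgHom.commutes, IsScalarTower.algebraMap_apply R A]
      simpa using Submodule.algebraMap_mem _
    | add a b j _ _ ha hb => rw [map_add]; exact add_mem ha hb
    | mem_mul a ha j b _ hb =>
      obtain ⟨v, rfl⟩ := ha
      rw [map_mul, bc_ι, pow_succ']
      exact Submodule.mul_mem_mul ⟨_, rfl⟩ hb
  rw [evenOdd] at hx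
  induction hx using Submodule.iSup_induction' with
  | mem j y hy => exact Submodule.mem_iSup_of_mem (p := fun j : {n : ℕ // (n : ZMod 2) = i} => _) j (key _ y hy)
  | zero => rw [map_zero]; exact zero_mem _
  | add a b _ _ ha hb => rw [map_add]; exact add_mem ha hb

theorem bc_involute (x : CliffordAlgebra Q) : bc Q A (involute x) = involute (bc Q A x) := by
  have : (bc Q A).comp involute = ((involute (Q := QA Q A)).restrictScalars R).comp (bc Q A) := by
    apply CliffordAlgebra.hom_ext
    ext v
    simp
  exact DFunLike.congr_fun this x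

end BC

end Groth.Misc12.Cliff
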