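import Groth.Agent.Misc12.Cliff.Global
import Mathlib.RingTheory.Spectrum.Prime.Topology

/-!
Parity of the twisted projections in the localisations, and criteria for the Dickson condition.
-/

set_option autoImplicit false
set_option linter.unusedSectionVars false

noncomputable section

open scoped TensorProduct
open QuadraticMap CliffordAlgebra MulOpposite

universe u v w

namespace Groth.Misc12.Cliff

variable {R : Type u} [CommRing R] {M : Type v} [AddCommGroup M] [Module R M] {Q : QuadraticForm R M}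
  [Module.Free R M] [Module.Finite R M]

section Conj

/-- Anything intertwining like a homogeneous unit is homogeneous of the same parity. -/
theorem eq_smul_of_conj {z : CliffordAlgebra Q} (hz : IsZ Q z) (hQ : QuadGrp.IsRegular Q)
    (φ : CliffordAlgebra Q →ₐ[R] CliffordAlgebra Q) (u : (CliffordAlgebra Q)ˣ) {X : CliffordAlgebra Q}
    (hu : ∀ x, φ x * (u : CliffordAlgebra Q) = (u : CliffordAlgebra Q) * x) (hX : ∀ x, φ x * X = X * x) :
    ∃ s : R, X = s • (u : CliffordAlgebra Q) := by
  obtain ⟨p, hp⟩ := hz.exists_sep hQ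
  obtain ⟨s, hs⟩ := hp.center (c := (↑u⁻¹ : CliffordAlgebra Q) * X) fun x => by
    have h1 : x * (↑u⁻¹ : CliffordAlgebra Q) = (↑u⁻¹ : CliffordAlgebra Q) * φ x := by
      rw [Units.eq_inv_mul_iff_mul_eq, ← mul_assoc, ← hu, Units.mul_inv_cancel_right]
    rw [← mul_assoc, h1, mul_assoc, hX, mul_assoc]
  exact ⟨s, by rw [Algebra.smul_def, Algebra.commutes, hs, Units.mul_inv_cancel_left]⟩

end Conj

variable {g : M ≃ₗ[R] M} (hg : g ∈ QuadGrp.O Q)

/-- The intertwining unit over a local algebra, with its parity. -/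
theorem exists_intertwiner (hQ : QuadGrp.IsRegular Q) {m : ℕ} (hM : Module.finrank R M = 2 * m)
    (A : Type w) [CommRing A] [Algebra R A] [IsLocalRing A] :
    ∃ u : (CliffordAlgebra (QA Q A))ˣ,
      (∀ x, cmap (baseChange_mem_O A hg) x * (u : CliffordAlgebra (QA Q A)) = (u : CliffordAlgebra (QA Q A)) * x) ∧
      ((∀ X, (∀ x, cmap (baseChange_mem_O A hg) x * X = X * x) → X ∈ evenOdd (QA Q A) 0) ∧
          algebraMap R A (LinearMap.det g.toLinearMap) = 1 ∧ (u : CliffordAlgebra (QA Q A)) ∈ evenOdd (QA Q A) 0 ∨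
        (∀ X, (∀ x, cmap (baseChange_mem_O A hg) x * X = X * x) → X ∈ evenOdd (QA Q A) 1) ∧
          algebraMap R A (LinearMap.det g.toLinearMap) = -1 ∧ (u : CliffordAlgebra (QA Q A)) ∈ evenOdd (QA Q A) 1) := by
  obtain ⟨z, hz, ⟨-, hd, u, hu, hc⟩ | ⟨hd, -, u, hu, hc⟩⟩ := local_cases hQ hM hg A
  · refine ⟨u, cmap_mul_of_even _ _ hc, Or.inl ⟨fun X hX => ?_, hd, hu⟩⟩
    obtain ⟨s, rfl⟩ := eq_smul_of_conj hz (isRegular_QA Q A hQ) _ u (cmap_mul_of_even _ _ hc) hX
    exact Submodule.smul_mem _ _ hu
  · have hc' : ∀ x, cmap (baseChange_mem_O A hg) x * (↑(u * hz.W) : CliffordAlgebra (QA Q A)) =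
        (↑(u * hz.W) : CliffordAlgebra (QA Q A)) * x := fun x => by
      rw [Units.val_mul, ← mul_assoc, cmap_mul_of_odd _ _ hc, mul_assoc, ← mul_eq_involute_mul _ hz.anti_W x, mul_assoc]
    have hu' : (↑(u * hz.W) : CliffordAlgebra (QA Q A)) ∈ evenOdd (QA Q A) 1 := by
      rw [Units.val_mul]
      simpa using SetLike.mul_mem_graded hu hz.W_mem
    refine ⟨u * hz.W, hc', Or.inr ⟨fun X hX => ?_, hd, hu'⟩⟩
    obtain ⟨s, rfl⟩ := eq_smul_of_conj hz (isRegular_QA Q A hQ) _ (u * hz.W) hc' hX
    exact Submodule.smul_mem _ _ hu'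

/-- If an even intertwiner exists in every localisation, the Dickson condition holds. -/
theorem isDicksonTrivial_of_forall
    (h : ∀ (P : Ideal R) [P.IsMaximal], ∃ u : (CliffordAlgebra (QA Q (Localization.AtPrime P)))ˣ,
      (u : CliffordAlgebra (QA Q (Localization.AtPrime P))) ∈ evenOdd (QA Q (Localization.AtPrime P)) 0 ∧
        ∀ x, cmap (baseChange_mem_O (Localization.AtPrime P) hg) x * (u : CliffordAlgebra (QA Q (Localization.AtPrime P))) =
          (u : CliffordAlgebra (QA Q (Localization.AtPrime P))) * x) :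
    QuadGrp.IsDicksonTrivial Q g hg := by
  intro x hx
  refine eq_of_forall_bc_eq fun P _ => ?_
  obtain ⟨u, hu, hc⟩ := h P
  obtain ⟨y, hy0, s, hs, hy⟩ := exists_bc_eq_smul_mem P hu
  have hcomm : bc Q (Localization.AtPrime P) (x : CliffordAlgebra Q) * (u : CliffordAlgebra (QA Q _)) =
      (u : CliffordAlgebra (QA Q _)) * bc Q (Localization.AtPrime P) (x : CliffordAlgebra Q) := by
    refine smul_left_cancel_loc P hs ?_
    rw [← mul_smul_comm, ← smul_mul_assoc, ← hy, ← map_mul, ← map_mul]
    exact congrArg (bc Q _) (congrArg Subtype.val (Subalgebra.mem_center_iff.1 hx ⟨y, hy0⟩)).symm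
  rw [cmap_bc]
  exact u.mul_left_inj.1 ((hc _).trans hcomm.symm)

theorem det_eq_one_of_isDicksonTrivial (hQ : QuadGrp.IsRegular Q) {m : ℕ} (hM : Module.finrank R M = 2 * m)
    (ht : QuadGrp.IsDicksonTrivial Q g hg) : LinearMap.det g.toLinearMap = 1 := by
  apply algebraMap_injective Q
  refine eq_of_forall_bc_eq fun P _ => ?_
  rw [AlgHom.commutes, AlgHom.commutes, IsScalarTower.algebraMap_apply R (Localization.AtPrime P), map_one]
  obtain ⟨z, hz, ⟨-, hd, -⟩ | ⟨-, hc, -⟩⟩ := local_cases hQ hM hg (Localization.AtPrime P)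
  · rw [hd, map_one]
  · exact absurd hc (not_odd_of_isDicksonTrivial hQ hM ht P hz)

theorem isDicksonTrivial_of_det_eq_one [Invertible (2 : R)] (hQ : QuadGrp.IsRegular Q) {m : ℕ}
    (hM : Module.finrank R M = 2 * m) (hd1 : LinearMap.det g.toLinearMap = 1) : QuadGrp.IsDicksonTrivial Q g hg := by
  refine isDicksonTrivial_of_forall hg fun P _ => ?_
  obtain ⟨u, hc, ⟨-, -, hu⟩ | ⟨-, hd, -⟩⟩ := exists_intertwiner hg hQ hM (Localization.AtPrime P)
  · exact ⟨u, hu, hc⟩
  · exfalso
    rw [hd1, map_one, eq_neg_iff_add_eq_zero, one_add_one_eq_two] at hd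
    have h2 := (isUnit_of_invertible (2 : R)).map (algebraMap R (Localization.AtPrime P))
    rw [map_ofNat, hd] at h2
    exact not_isUnit_zero h2

theorem det_eq_neg_one_of_connected (hc : ConnectedSpace (PrimeSpectrum R)) (hQ : QuadGrp.IsRegular Q) {m : ℕ}
    (hM : Module.finrank R M = 2 * m) (hD : ¬ QuadGrp.IsDicksonTrivial Q g hg) : LinearMap.det g.toLinearMap = -1 := by
  classical
  haveI := free Q
  haveI := finite Q
  obtain ⟨p, hp⟩ := exists_sep_global hQ hM
  let c := Module.Free.chooseBasis R (CliffordAlgebra Q)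
  let T := sand (cmap hg) (AlgHom.id R _) p
  let comp : ZMod 2 → Module.Free.ChooseBasisIndex R (CliffordAlgebra Q) → CliffordAlgebra Q :=
    fun j i => ↑(DirectSum.decompose (evenOdd Q) (T (c i)) j)
  let J : ZMod 2 → Ideal R := fun j => ⨅ i, LinearMap.ker (LinearMap.toSpanSingleton R _ (comp j i))
  have hJ : ∀ j r, r ∈ J j ↔ ∀ i, r • comp j i = 0 := fun j r => by simp [J]
  have hsum : ∀ i, T (c i) = comp 0 i + comp 1 i := fun i => sum_decompose _
  -- the situation at a maximal ideal
  have loc : ∀ (P : Ideal R) [P.IsMaximal],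
      (((∀ i, bc Q (Localization.AtPrime P) (comp 1 i) = 0) ∧
          ∃ u : (CliffordAlgebra (QA Q (Localization.AtPrime P)))ˣ,
            (u : CliffordAlgebra (QA Q (Localization.AtPrime P))) ∈ evenOdd (QA Q (Localization.AtPrime P)) 0 ∧
              ∀ x, cmap (baseChange_mem_O (Localization.AtPrime P) hg) x * (u : CliffordAlgebra (QA Q (Localization.AtPrime P))) =
                (u : CliffordAlgebra (QA Q (Localization.AtPrime P))) * x) ∨
        ((∀ i, bc Q (Localization.AtPrime P) (comp 0 i) = 0) ∧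
          algebraMap R (Localization.AtPrime P) (LinearMap.det g.toLinearMap) = -1)) ∧
      (∀ r : R, (∀ i, r • bc Q (Localization.AtPrime P) (T (c i)) = 0) → algebraMap R (Localization.AtPrime P) r = 0) := by
    intro P _
    let A := Localization.AtPrime P
    obtain ⟨u, hu, hcases⟩ := exists_intertwiner hg hQ hM A
    have hα : ∀ x, ((bc Q A).comp (cmap hg)) x * (u : CliffordAlgebra (QA Q A)) =
        (u : CliffordAlgebra (QA Q A)) * bc Q A x := fun x => by
      rw [AlgHom.comp_apply, cmap_bc, hu]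
    have hT : ∀ y, bc Q A (T y) = sand ((bc Q A).comp (cmap hg)) (bc Q A) p (bc Q A y) := fun y => by
      rw [map_sand]; rfl
    have htw : ∀ i, ∀ x, cmap (baseChange_mem_O A hg) x * bc Q A (T (c i)) = bc Q A (T (c i)) * x := by
      intro i x
      obtain ⟨t, rfl⟩ := (bcEquiv Q A).symm.surjective x
      change cmap _ (ofBC Q A t) * _ = _ * ofBC Q A t
      induction t using TensorProduct.induction_on with
      | zero => simp
      | tmul a x =>
        rw [ofBC_tmul, map_smul, ← cmap_bc A hg, smul_mul_assoc, mul_smul_comm, ← map_mul, ← map_mul]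
        exact congrArg (fun y => a • bc Q A y) (hp.twist (cmap hg) (AlgHom.id R _) x (c i))
      | add x y hx hy => rw [map_add, map_add, add_mul, mul_add, hx, hy]
    have hcomp : ∀ j, (∀ i, bc Q A (T (c i)) ∈ evenOdd (QA Q A) j) → ∀ i, bc Q A (comp (j + 1) i) = 0 := by
      intro j hj i
      have h0 := bc_mem_evenOdd Q A (SetLike.coe_mem (DirectSum.decompose (evenOdd Q) (T (c i)) 0))
      have h1 := bc_mem_evenOdd Q A (SetLike.coe_mem (DirectSum.decompose (evenOdd Q) (T (c i)) 1))
      have h := hj i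
      rw [hsum i, map_add] at h
      rcases (by decide : ∀ j : ZMod 2, j = 0 ∨ j = 1) j with rfl | rfl
      · rw [zero_add]
        exact eq_zero_of_mem_mem (by simpa [comp] using sub_mem h h0) h1
      · rw [show (1 : ZMod 2) + 1 = 0 from rfl]
        exact eq_zero_of_mem_mem h0 (by simpa [comp] using sub_mem h h1)
    refine ⟨?_, fun r hr => ?_⟩
    · rcases hcases with ⟨hX, -, hu0⟩ | ⟨hX, hd, -⟩
      · exact Or.inl ⟨fun i => by simpa using hcomp 0 (fun i => hX _ (htw i)) i, u, hu0, hu⟩
      · exact Or.inr ⟨fun i => by simpa [show (1 : ZMod 2) + 1 = 0 from rfl] using hcomp 1 (fun i => hX _ (htw i)) i, hd⟩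
    · have : algebraMap R A r • (u : CliffordAlgebra (QA Q A)) = 0 := by
        rw [← hp.fix _ _ hα, ← (bcBasis Q A c).sum_repr (u : CliffordAlgebra (QA Q A)), map_sum, Finset.smul_sum]
        refine Finset.sum_eq_zero fun i _ => ?_
        rw [sand_smul, bcBasis_apply, ← hT, smul_comm, algebraMap_smul, hr, smul_zero]
      rw [Algebra.smul_def, ← Units.eq_mul_inv_iff_mul_eq, zero_mul] at this
      exact algebraMap_injective (QA Q A) (this.trans (map_zero _).symm)
  -- the two ideals are comaximal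
  have htop : J 1 ⊔ J 0 = ⊤ := by
    by_contra h
    obtain ⟨P, hP, hle⟩ := Ideal.exists_le_maximal _ h
    have key : ∀ j, (∀ i, bc Q (Localization.AtPrime P) (comp j i) = 0) → J j ≤ P → False := by
      intro j hj hjP
      choose s hs hs0 using fun i => exists_smul_eq_zero P (hj i)
      have : ∏ i, s i ∈ J j := (hJ j _).2 fun i => by
        rw [← Finset.prod_erase_mul _ _ (Finset.mem_univ i), mul_smul, hs0 i, smul_zero]
      obtain ⟨i, -, hi⟩ := (Ideal.IsPrime.prod_mem_iff (p := P)).1 (hjP this)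
      exact hs i hi
    rcases (loc P).1 with ⟨h1, -⟩ | ⟨h0, -⟩
    · exact key 1 h1 (le_sup_left.trans hle)
    · exact key 0 h0 (le_sup_right.trans hle)
  obtain ⟨e, he, f, hf, hef1⟩ := Submodule.mem_sup.1 (htop ▸ Submodule.mem_top : (1 : R) ∈ J 1 ⊔ J 0)
  have hef : e * f = 0 := by
    apply algebraMap_injective Q
    rw [map_zero]
    refine eq_of_forall_bc_eq fun P _ => ?_
    rw [AlgHom.commutes, map_zero, IsScalarTower.algebraMap_apply R (Localization.AtPrime P), (loc P).2 (e * f), map_zero]
    intro i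
    rw [← map_smul, hsum i, smul_add, mul_smul e f (comp 0 i), (hJ 0 f).1 hf i, smul_zero, zero_add, mul_comm, mul_smul,
      (hJ 1 e).1 he i, smul_zero, map_zero]
  have hclo : IsClopen (PrimeSpectrum.basicOpen e : Set (PrimeSpectrum R)) :=
    PrimeSpectrum.isClopen_basicOpen_of_mul_add e f hef hef1
  haveI := hc
  rcases isClopen_iff.1 hclo with h | h
  · -- `e` nilpotent: all odd
    have he0 : IsNilpotent e := PrimeSpectrum.basicOpen_eq_bot_iff e |>.1 (SetLike.coe_injective (by rw [h]; rfl))
    have hf1 : f = 1 := by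
      obtain ⟨n, hn⟩ := he0
      have he2 : IsIdempotentElem e := (IsIdempotentElem.of_mul_add hef hef1).1
      have : e = 0 := by
        cases n with
        | zero => rw [pow_zero] at hn; rw [← mul_one e, hn, mul_zero]
        | succ n => rwa [he2.pow_succ_eq n] at hn
      rwa [this, zero_add] at hef1
    apply algebraMap_injective Q
    refine eq_of_forall_bc_eq fun P _ => ?_
    rw [AlgHom.commutes, AlgHom.commutes, IsScalarTower.algebraMap_apply R (Localization.AtPrime P),
      IsScalarTower.algebraMap_apply R (Localization.AtPrime P) _ (-1)]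
    rcases (loc P).1 with ⟨h1, -⟩ | ⟨-, hd⟩
    · exfalso
      refine one_ne_zero (α := Localization.AtPrime P) (by
        rw [← map_one (algebraMap R (Localization.AtPrime P))]
        refine (loc P).2 1 fun i => ?_
        rw [one_smul, hsum i, map_add, h1, add_zero, ← one_smul R (comp 0 i), ← hf1, (hJ 0 f).1 hf i, map_zero])
    · rw [hd]; simp
  · exfalso
    have he1 : e = 1 := by
      have hu : IsUnit e := by
        by_contra hu
        obtain ⟨P, hP, hle⟩ := Ideal.exists_le_maximal (Ideal.span {e}) (by rwa [Ne, Ideal.span_singleton_eq_top])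
        have : (⟨P, hP.isPrime⟩ : PrimeSpectrum R) ∈ (PrimeSpectrum.basicOpen e : Set (PrimeSpectrum R)) := by rw [h]; trivial
        exact this (hle (Ideal.mem_span_singleton_self e))
      have he2 : e * e = e := (IsIdempotentElem.of_mul_add hef hef1).1
      exact hu.mul_left_cancel (by rw [he2, mul_one])
    apply hD
    refine isDicksonTrivial_of_forall hg fun P _ => ?_
    rcases (loc P).1 with ⟨-, h⟩ | ⟨h0, -⟩
    · exact h
    · exfalso
      refine one_ne_zero (α := Localization.AtPrime P) (by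
        rw [← map_one (algebraMap R (Localization.AtPrime P))]
        refine (loc P).2 1 fun i => ?_
        rw [one_smul, hsum i, map_add, h0, zero_add, ← one_smul R (comp 1 i), ← he1, (hJ 1 e).1 he i, map_zero])

end Groth.Misc12.Cliff
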