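import Groth.Agent.Misc12.Cliff.GPin
import Groth.Agent.Calg4.SmoothReduced
import Groth.Agent.Misc12.Cliff.Odd.Local

/-!
The naive special orthogonal group of a regular form of even rank with a global element `z`: the obstruction
`φ z - z` is two-torsion, the coordinate ring is reduced when the base is `ℤ`, and it is not flat.
-/

set_option autoImplicit false
set_option linter.unusedSectionVars false

noncomputable section

open CategoryTheory AlgebraicGeometry CliffordAlgebra
open scoped TensorProduct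

universe u

namespace Groth.Misc12.Cliff.SOPrime

open Groth.Misc12.Quad (stdB OK betaM)

variable {R : Type u} [CommRing R] {n m : ℕ} {Q : QuadraticForm R (Fin n → R)}

/-- The isometry with matrix `G`. -/
def geq {A : Type u} [CommRing A] [Algebra R A] {s : Bool} {G : Matrix (Fin n) (Fin n) A} (h : OK (betaM Q) s A G) :
    (A ⊗[R] (Fin n → R)) ≃ₗ[A] (A ⊗[R] (Fin n → R)) := Matrix.toLinearEquiv (stdB (R := R) A) G h.1

theorem geq_mem {A : Type u} [CommRing A] [Algebra R A] {s : Bool} {G : Matrix (Fin n) (Fin n) A}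
    (h : OK (betaM Q) s A G) : geq h ∈ QuadGrp.O (QA Q A) := by
  obtain ⟨B, hB, hBm⟩ := Quad.bcForm_lift Q A
  exact (Quad.mem_O_iff_cf (stdB (R := R) A) (QA Q A) B hB (geq h)).2 (by
    rw [show LinearMap.toMatrix (stdB (R := R) A) (stdB (R := R) A) (geq h).toLinearMap = G from
      LinearMap.toMatrix_toLin _ _ _, hBm]
    exact h.2.1)

theorem det_geq {A : Type u} [CommRing A] [Algebra R A] {s : Bool} {G : Matrix (Fin n) (Fin n) A}
    (h : OK (betaM Q) s A G) : LinearMap.det (geq h).toLinearMap = G.det := by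
  rw [show (geq h).toLinearMap = Matrix.toLin _ _ G from rfl, LinearMap.det_toLin]

theorem Fmap_cmap {A B : Type u} [CommRing A] [CommRing B] [Algebra R A] [Algebra R B] (φ : A →ₐ[R] B) {s s' : Bool}
    {G : Matrix (Fin n) (Fin n) A} (h : OK (betaM Q) s A G) {G' : Matrix (Fin n) (Fin n) B}
    (h' : OK (betaM Q) s' B G') (hG : G.map φ = G') (x : CliffordAlgebra Q) :
    Fmap φ Q (cmap (geq_mem h) (bc Q A x)) = cmap (geq_mem h') (bc Q B x) := by
  let f1 : CliffordAlgebra Q →ₐ[R] CliffordAlgebra (QA Q B) :=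
    (Fmap φ Q).comp (((cmap (geq_mem h)).restrictScalars R).comp (bc Q A))
  let f2 : CliffordAlgebra Q →ₐ[R] CliffordAlgebra (QA Q B) := ((cmap (geq_mem h')).restrictScalars R).comp (bc Q B)
  suffices f1 = f2 from DFunLike.congr_fun this x
  apply CliffordAlgebra.hom_ext
  refine (Pi.basisFun R (Fin n)).ext fun i => ?_
  change Fmap φ Q (cmap (geq_mem h) (bc Q A (ι Q (Pi.basisFun R (Fin n) i)))) =
    cmap (geq_mem h') (bc Q B (ι Q (Pi.basisFun R (Fin n) i)))
  rw [bc_ι, bc_ι, cmap_ι, cmap_ι, Pi.basisFun_apply, ← Quad.stdB_apply, ← Quad.stdB_apply,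
    show geq h (stdB (R := R) A i) = Matrix.toLin _ _ G (stdB (R := R) A i) from rfl, toLin_stdB,
    show geq h' (stdB (R := R) B i) = Matrix.toLin _ _ G' (stdB (R := R) B i) from rfl, toLin_stdB, map_sum, ← hG]
  simp only [Fmap_smul, Fmap_ev, Matrix.map_apply]

variable (z : CliffordAlgebra Q)

/-- The obstruction `φ z - z`. -/
def obst {A : Type u} [CommRing A] [Algebra R A] {s : Bool} {G : Matrix (Fin n) (Fin n) A} (h : OK (betaM Q) s A G) :
    CliffordAlgebra (QA Q A) := cmap (geq_mem h) (bc Q A z) - bc Q A z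

variable {z}

theorem Fmap_obst {A B : Type u} [CommRing A] [CommRing B] [Algebra R A] [Algebra R B] (φ : A →ₐ[R] B) {s s' : Bool}
    {G : Matrix (Fin n) (Fin n) A} (h : OK (betaM Q) s A G) {G' : Matrix (Fin n) (Fin n) B}
    (h' : OK (betaM Q) s' B G') (hG : G.map φ = G') : Fmap φ Q (obst z h) = obst z h' := by
  rw [obst, obst, map_sub, Fmap_cmap φ h h' hG, Fmap_bc]

theorem dichotomy (hQ : QuadGrp.IsRegular Q) (hn : n = 2 * m) (hz : IsZ Q z) {A : Type u} [CommRing A] [Algebra R A]
    [IsLocalRing A] {s : Bool} {G : Matrix (Fin n) (Fin n) A} (h : OK (betaM Q) s A G) :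
    (G.det = 1 ∧ obst z h = 0) ∨ (G.det = -1 ∧ IsUnit (obst z h)) := by
  have : Nontrivial R := (algebraMap R A).domain_nontrivial
  rcases local_dichotomy (geq_mem h) (isRegular_QA Q A hQ) (m := m)
    (by rw [Module.finrank_baseChange, Module.finrank_fin_fun, hn]) (hz.bc A) with ⟨hd, hdet, -⟩ | ⟨-, hdet, hc, -⟩
  · refine Or.inl ⟨by rw [← det_geq h, hdet], ?_⟩
    exact sub_eq_zero.2 (hd ⟨bc Q A z, (hz.bc A).even⟩ (hz.bc A).mem_center)
  · refine Or.inr ⟨by rw [← det_geq h, hdet], ?_⟩
    rw [obst, hc, show 1 - bc Q A z - bc Q A z = 1 - 2 • bc Q A z by rw [two_nsmul]; abel]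
    exact (hz.bc A).isUnit_one_sub

/-- An element killed at all maximal ideals is zero. -/
theorem eq_zero_of_forall_loc {A : Type u} [CommRing A] [Algebra R A] {X : CliffordAlgebra (QA Q A)}
    (h : ∀ (P : Ideal A) [P.IsMaximal], Fmap (IsScalarTower.toAlgHom R A (Localization.AtPrime P)) Q X = 0) : X = 0 := by
  classical
  haveI := free Q
  haveI := finite Q
  let c := Module.Free.chooseBasis R (CliffordAlgebra Q)
  refine (bcBasis Q A c).ext_elem fun i => ?_
  rw [map_zero, Finsupp.zero_apply]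
  by_contra hne
  have htop : LinearMap.ker (LinearMap.toSpanSingleton A A ((bcBasis Q A c).repr X i)) ≠ ⊤ := fun ht => hne (by
    have h1 : (1 : A) ∈ LinearMap.ker (LinearMap.toSpanSingleton A A ((bcBasis Q A c).repr X i)) := ht ▸ Submodule.mem_top
    simpa using h1)
  obtain ⟨P, hP, hle⟩ := Ideal.exists_le_maximal _ htop
  have h2 : algebraMap A (Localization.AtPrime P) ((bcBasis Q A c).repr X i) = 0 := by
    have h3 := repr_Fmap (IsScalarTower.toAlgHom R A (Localization.AtPrime P)) c X i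
    rw [h P, map_zero, Finsupp.zero_apply] at h3
    exact h3.symm
  obtain ⟨⟨t, ht⟩, ht0⟩ := (IsLocalization.map_eq_zero_iff P.primeCompl (Localization.AtPrime P) _).1 h2
  exact ht (hle (by simpa using ht0))

theorem two_smul_obst (hQ : QuadGrp.IsRegular Q) (hn : n = 2 * m) (hz : IsZ Q z) {A : Type u} [CommRing A] [Algebra R A]
    {G : Matrix (Fin n) (Fin n) A} (h : OK (betaM Q) true A G) : (2 : A) • obst z h = 0 := by
  refine eq_zero_of_forall_loc fun P _ => ?_
  let φ := IsScalarTower.toAlgHom R A (Localization.AtPrime P)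
  have h' := h.map _ _ φ
  rw [Fmap_smul, Fmap_obst φ h h' rfl]
  rcases dichotomy hQ hn hz h' with ⟨-, h0⟩ | ⟨hd, -⟩
  · rw [h0, smul_zero]
  · rw [h'.2.2 rfl, eq_neg_iff_add_eq_zero, one_add_one_eq_two] at hd
    rw [map_ofNat, hd, zero_smul]

/-- Vanishing of the obstruction gives determinant one. -/
theorem det_eq_one_of_quotient (hQ : QuadGrp.IsRegular Q) (hn : n = 2 * m) (hz : IsZ Q z) {A : Type u} [CommRing A]
    [Algebra R A] {J : Ideal A} (hJ : J ^ 2 = ⊥) {G : Matrix (Fin n) (Fin n) A} (h : OK (betaM Q) false A G)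
    (hb : OK (betaM Q) false (A ⧸ J) (G.map (Ideal.Quotient.mkₐ R J)))
    (h0 : obst z hb = 0 ∨ (2 : A) = 0) : G.det = 1 := by
  have key : ∀ (P : Ideal A) [P.IsMaximal], algebraMap A (Localization.AtPrime P) (G.det - 1) = 0 := by
    intro P hP
    let φ := IsScalarTower.toAlgHom R A (Localization.AtPrime P)
    have h' := h.map _ _ φ
    have hdet : (G.map φ).det = algebraMap A (Localization.AtPrime P) G.det := (φ.toRingHom.map_det G).symm
    rw [map_sub, map_one, ← hdet, sub_eq_zero]
    rcases dichotomy hQ hn hz h' with ⟨hd, -⟩ | ⟨hd, hu⟩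
    · exact hd
    rcases h0 with h0 | h2
    · exfalso
      have hJP : ∀ a ∈ J, a ∈ P := fun a ha => hP.isPrime.mem_of_pow_mem 2
        ((show a ^ 2 = 0 by rw [pow_two]; exact Quad.mul_eq_zero_of_mem hJ ha ha) ▸ P.zero_mem)
      let ψ1 : A →ₐ[R] P.ResidueField := IsScalarTower.toAlgHom R A P.ResidueField
      let ψ2 : A ⧸ J →ₐ[R] P.ResidueField := Ideal.Quotient.liftₐ J ψ1 fun a ha =>
        Ideal.algebraMap_residueField_eq_zero.2 (hJP a ha)
      let ψ3 : Localization.AtPrime P →ₐ[R] P.ResidueField :=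
        IsScalarTower.toAlgHom R (Localization.AtPrime P) P.ResidueField
      have h1 : OK (betaM Q) false P.ResidueField (G.map ψ1) := h.map _ _ ψ1
      have e2 : (G.map (Ideal.Quotient.mkₐ R J)).map ψ2 = G.map ψ1 := by ext i j; rfl
      have e3 : (G.map φ).map ψ3 = G.map ψ1 := by
        ext i j
        exact (IsScalarTower.algebraMap_apply A (Localization.AtPrime P) P.ResidueField _).symm
      have hzero : obst z h1 = 0 := by rw [← Fmap_obst ψ2 hb h1 e2, h0, map_zero]
      have hunit : IsUnit (obst z h1) := by rw [← Fmap_obst ψ3 h' h1 e3]; exact hu.map _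
      rw [hzero] at hunit
      haveI : Nontrivial (CliffordAlgebra (QA Q P.ResidueField)) := (algebraMap_injective _).nontrivial
      exact not_isUnit_zero hunit
    · rw [hd, eq_comm, eq_neg_iff_add_eq_zero, one_add_one_eq_two, ← map_ofNat (algebraMap A (Localization.AtPrime P)), h2,
        map_zero]
  rw [← sub_eq_zero]
  by_contra hne
  have htop : LinearMap.ker (LinearMap.toSpanSingleton A A (G.det - 1)) ≠ ⊤ := fun ht => hne (by
    have h1 : (1 : A) ∈ LinearMap.ker (LinearMap.toSpanSingleton A A (G.det - 1)) := ht ▸ Submodule.mem_top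
    simpa using h1)
  obtain ⟨P, hP, hle⟩ := Ideal.exists_le_maximal _ htop
  obtain ⟨⟨t, ht⟩, ht0⟩ := (IsLocalization.map_eq_zero_iff P.primeCompl (Localization.AtPrime P) _).1 (key P)
  exact ht (hle (by simpa using ht0))

section Coord

variable (Q)

abbrev C : Type u := Quad.Coord (betaM Q) true

theorem ok_univ : OK (betaM Q) true (C Q) (Quad.univMat (betaM Q) true) := Quad.univMat_ok _ _

variable {Q}

/-- A localisation on which the obstruction vanishes or `2 = 0` is formally smooth over a suitable base. -/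
theorem formallySmooth_away (hQ : QuadGrp.IsRegular Q) (hn : n = 2 * m) (hz : IsZ Q z) (f : C Q)
    (R₀ : Type u) [CommRing R₀] [Algebra R R₀] [Algebra R₀ (Localization.Away f)]
    [IsScalarTower R R₀ (Localization.Away f)] (hR₀ : ∀ r : R₀, ∃ x : R, algebraMap R R₀ x = r)
    (h0 : Fmap (IsScalarTower.toAlgHom R (C Q) (Localization.Away f)) Q (obst z (ok_univ Q)) = 0 ∨ (2 : R₀) = 0) :
    Algebra.FormallySmooth R₀ (Localization.Away f) := by
  rw [Algebra.FormallySmooth.iff_comp_surjective]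
  intro A _ _ J hJ φ
  letI : Algebra R A := ((algebraMap R₀ A).comp (algebraMap R R₀)).toAlgebra
  haveI : IsScalarTower R R₀ A := IsScalarTower.of_algebraMap_eq fun _ => rfl
  let ρ : C Q →ₐ[R] A ⧸ J := (φ.restrictScalars R).comp (IsScalarTower.toAlgHom R (C Q) (Localization.Away f))
  have hb := (ok_univ Q).map _ _ ρ
  have hb' : OK (betaM Q) false (A ⧸ J) ((Quad.univMat (betaM Q) true).map ρ) :=
    ⟨hb.1, hb.2.1, fun h => absurd h (by decide)⟩
  obtain ⟨G, hG, hGb⟩ := Quad.lift_regular (Quad.isUnit_det_polar hQ) false (fun h => absurd h (by decide)) hJ hb'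
  have hGb' : G.map (Ideal.Quotient.mkₐ R J) = (Quad.univMat (betaM Q) true).map ρ := hGb
  have hbm : OK (betaM Q) false (A ⧸ J) (G.map (Ideal.Quotient.mkₐ R J)) := hG.map _ _ _
  have hdet : G.det = 1 := det_eq_one_of_quotient hQ hn hz hJ hG hbm (by
    rcases h0 with h0 | h2
    · left
      have h1 : obst z hb = 0 := by
        rw [← Fmap_obst ρ (ok_univ Q) hb rfl, show ρ = (φ.restrictScalars R).comp (IsScalarTower.toAlgHom R (C Q) (Localization.Away f)) from rfl,
          ← Fmap_comp, h0, map_zero]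
      have e : (G.map (Ideal.Quotient.mkₐ R J)).map (AlgHom.id R (A ⧸ J)) = (Quad.univMat (betaM Q) true).map ρ := by
        rw [← hGb']; rfl
      have h3 := Fmap_obst (z := z) (AlgHom.id R (A ⧸ J)) hbm hb e
      have h4 := Fmap_obst (z := z) (AlgHom.id R (A ⧸ J)) hb hbm (by rw [hGb']; rfl)
      rw [h1, map_zero] at h4
      exact h4.symm
    · right
      rw [← map_ofNat (algebraMap R₀ A), h2, map_zero])
  obtain ⟨ψ, hψ⟩ := Quad.exists_hom (betaM Q) true (show OK (betaM Q) true A G from ⟨hG.1, hG.2.1, fun _ => hdet⟩)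
  have hψρ : (Ideal.Quotient.mkₐ R J).comp ψ = ρ := Quad.coord_ext (betaM Q) true (by
    rw [← hGb', ← hψ]; rfl)
  have hfu : IsUnit (ψ f) := Quad.isUnit_of_mk hJ (by
    have h := DFunLike.congr_fun hψρ f
    change Ideal.Quotient.mk J (ψ f) = ρ f at h
    rw [h]
    exact (IsLocalization.Away.algebraMap_isUnit (S := Localization.Away f) f).map (φ.restrictScalars R))
  let Ψ : Localization.Away f →+* A := IsLocalization.Away.lift f hfu
  have hΨ : ∀ x, Ψ (algebraMap (C Q) _ x) = ψ x := fun x => IsLocalization.Away.lift_eq f hfu x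
  refine ⟨⟨Ψ, fun r => ?_⟩, ?_⟩
  · obtain ⟨x, rfl⟩ := hR₀ r
    change Ψ _ = _
    rw [← IsScalarTower.algebraMap_apply R R₀ (Localization.Away f), IsScalarTower.algebraMap_apply R (C Q) (Localization.Away f),
      hΨ, AlgHom.commutes, IsScalarTower.algebraMap_apply R R₀ A]
  · apply AlgHom.coe_ringHom_injective
    refine IsLocalization.ringHom_ext (Submonoid.powers f) (RingHom.ext fun x => ?_)
    change Ideal.Quotient.mk J (Ψ (algebraMap (C Q) _ x)) = φ (algebraMap (C Q) _ x)
    rw [hΨ]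
    exact DFunLike.congr_fun hψρ x

end Coord

end Groth.Misc12.Cliff.SOPrime

namespace Groth.Misc12.Cliff.SOPrime

open Groth.Misc12.Quad (stdB OK betaM)

variable {R : Type u} [CommRing R] {n : ℕ}

open MonObj in
/-- The representing scheme is the spectrum of the coordinate ring. -/
theorem exists_iso_coord (S : ∀ (A : Type u) [CommRing A] [Algebra R A], Subgroup ((A ⊗[R] (Fin n → R)) ≃ₗ[A] (A ⊗[R] (Fin n → R))))
    (G : Over (Spec (CommRingCat.of R))) [GrpObj G] (D : QuadGrp.LinRep R (Fin n → R) S G)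
    (β : Matrix (Fin n) (Fin n) R) (s : Bool)
    (hS : ∀ (A : Type u) [CommRing A] [Algebra R A] (h : (A ⊗[R] (Fin n → R)) ≃ₗ[A] (A ⊗[R] (Fin n → R))),
      h ∈ S A ↔ OK β s A (LinearMap.toMatrix (stdB A) (stdB A) h.toLinearMap)) :
    ∃ u : Spec (CommRingCat.of (Quad.Coord β s)) ⟶ G.left, IsIso u ∧
      u ≫ G.hom = Spec.map (CommRingCat.ofHom (algebraMap R (Quad.Coord β s))) := by
  classical
  set C := Quad.Coord β s
  have hU := Quad.univMat_ok β s
  let h0 : (C ⊗[R] (Fin n → R)) ≃ₗ[C] (C ⊗[R] (Fin n → R)) := Matrix.toLinearEquiv (stdB C) (Quad.univMat β s) hU.1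
  have h0m : LinearMap.toMatrix (stdB C) (stdB C) h0.toLinearMap = Quad.univMat β s := LinearMap.toMatrix_toLin _ _ _
  have hmem : h0 ∈ S C := (hS C h0).2 (by rw [h0m]; exact hU)
  let e0 : ↥(S C) := ⟨h0, hmem⟩
  let u : QuadGrp.specOver R C ⟶ G := MulEquiv.symm (D.pts C) e0
  have hnat : ∀ (A : Type u) [CommRing A] [Algebra R A] (φ : C →ₐ[R] A),
      LinearMap.toMatrix (stdB A) (stdB A) ((D.pts A (QuadGrp.specOverMap R φ ≫ u) : ↥(S A)) : (A ⊗[R] (Fin n → R)) ≃ₗ[A] (A ⊗[R] (Fin n → R))).toLinearMap =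
        (Quad.univMat β s).map φ := by
    intro A _ _ φ
    ext i j
    rw [LinearMap.toMatrix_apply, Matrix.map_apply, Quad.stdB_apply, LinearEquiv.coe_toLinearMap, D.natural C A φ u,
      Quad.repr_rTensor, MulEquiv.apply_symm_apply]
    congr 1
    have := congrFun (congrFun h0m i) j
    rwa [LinearMap.toMatrix_apply, Quad.stdB_apply] at this
  have hpts : ∀ (A : Type u) [CommRing A] [Algebra R A],
      Function.Bijective fun y : QuadGrp.specOver R A ⟶ QuadGrp.specOver R C => y ≫ u := by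
    intro A _ _
    have hy : ∀ y : QuadGrp.specOver R A ⟶ QuadGrp.specOver R C, ∃ φ : C →ₐ[R] A, y = QuadGrp.specOverMap R φ := by
      intro y
      obtain ⟨f, hf⟩ := Spec.map_surjective y.left
      have hw := Over.w y
      change y.left ≫ Spec.map _ = Spec.map _ at hw
      have hw2 : Spec.map (CommRingCat.ofHom (algebraMap R C) ≫ f) = Spec.map (CommRingCat.ofHom (algebraMap R A)) :=
        (Spec.map_comp _ _).trans ((congrArg (fun e => e ≫ Spec.map (CommRingCat.ofHom (algebraMap R C))) hf).trans hw)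
      have hw' := CommRingCat.hom_ext_iff.1 (Spec.map_injective hw2)
      exact ⟨⟨f.hom, fun r => RingHom.congr_fun hw' r⟩, Over.OverMorphism.ext hf.symm⟩
    constructor
    · intro y y' hyy
      obtain ⟨φ, rfl⟩ := hy y
      obtain ⟨φ', rfl⟩ := hy y'
      have h1 := hnat A φ
      rw [show QuadGrp.specOverMap R φ ≫ u = QuadGrp.specOverMap R φ' ≫ u from hyy, hnat A φ'] at h1
      rw [Quad.coord_ext β s h1.symm]
    · intro g
      obtain ⟨φ, hφ⟩ := Quad.exists_hom β s ((hS A _).1 (D.pts A g).2)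
      refine ⟨QuadGrp.specOverMap R φ, (D.pts A).injective (Subtype.ext (LinearEquiv.toLinearMap_injective
        ((LinearMap.toMatrix (stdB A) (stdB A)).injective ((hnat A φ).trans hφ))))⟩
  exact ⟨u.left, Quad.isIso_of_points u hpts, Over.w u⟩

end Groth.Misc12.Cliff.SOPrime

namespace Groth.Misc12.Cliff.SOPrime

open Groth.Misc12.Quad (stdB OK betaM)

variable {R : Type u} [CommRing R] {n m : ℕ} {Q : QuadraticForm R (Fin n → R)} {z : CliffordAlgebra Q}

theorem isReduced_coord [_root_.IsReduced R] (h2 : _root_.IsReduced (R ⧸ Ideal.span {(2 : R)})) (hQ : QuadGrp.IsRegular Q)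
    (hn : n = 2 * m) (hz : IsZ Q z) : _root_.IsReduced (C Q) := by
  classical
  refine isReduced_ofLocalizationMaximal (C Q) fun P hP => ?_
  let φ := IsScalarTower.toAlgHom R (C Q) (Localization.AtPrime P)
  have h' := OK.map (B := Localization.AtPrime P) _ _ (ok_univ Q) φ
  set y := obst z (ok_univ Q)
  obtain ⟨f, hf, hf0⟩ : ∃ f ∉ P, Fmap (IsScalarTower.toAlgHom R (C Q) (Localization.Away f)) Q y = 0 ∨
      (2 : Localization.Away f) = 0 := by
    rcases dichotomy hQ hn hz h' with ⟨-, h0⟩ | ⟨hd, -⟩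
    · haveI := free Q
      haveI := finite Q
      let c := Module.Free.chooseBasis R (CliffordAlgebra Q)
      have hk : ∀ i, ∃ t : P.primeCompl, (t : C Q) * (bcBasis Q (C Q) c).repr y i = 0 := fun i => by
        refine (IsLocalization.map_eq_zero_iff P.primeCompl (Localization.AtPrime P) _).1 ?_
        have h3 := repr_Fmap (B := Localization.AtPrime P) φ c y i
        rw [Fmap_obst (B := Localization.AtPrime P) φ _ h' rfl, h0, map_zero, Finsupp.zero_apply] at h3
        exact h3.symm
      choose t ht using hk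
      refine ⟨∏ i, (t i : C Q), (∏ i, t i).2 |> fun h => by simpa using h, Or.inl ?_⟩
      refine (bcBasis Q _ c).ext_elem fun i => ?_
      rw [repr_Fmap, map_zero, Finsupp.zero_apply]
      refine ((IsLocalization.Away.algebraMap_isUnit (S := Localization.Away (∏ j, (t j : C Q))) (∏ j, (t j : C Q))).mul_right_eq_zero).1 ?_
      rw [IsScalarTower.coe_toAlgHom', ← map_mul, ← Finset.prod_erase_mul _ _ (Finset.mem_univ i), mul_assoc, ht, mul_zero, map_zero]
    · have h2 : (2 : Localization.AtPrime P) = 0 := by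
        rw [h'.2.2 rfl, eq_neg_iff_add_eq_zero, one_add_one_eq_two] at hd
        exact hd
      obtain ⟨⟨t, ht⟩, ht0⟩ := (IsLocalization.map_eq_zero_iff P.primeCompl (Localization.AtPrime P) (2 : C Q)).1
        (by rw [map_ofNat]; exact h2)
      refine ⟨t, ht, Or.inr ((IsLocalization.Away.algebraMap_isUnit (S := Localization.Away t) t).mul_right_eq_zero.1 ?_)⟩
      rw [← map_ofNat (algebraMap (C Q) (Localization.Away t)) 2, ← map_mul, ht0, map_zero]
  haveI : Algebra.FinitePresentation (C Q) (Localization.Away f) := IsLocalization.Away.finitePresentation f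
  haveI : Algebra.FinitePresentation R (Localization.Away f) := Algebra.FinitePresentation.trans R (C Q) (Localization.Away f)
  haveI hred : _root_.IsReduced (Localization.Away f) := by
    rcases hf0 with h0 | h20
    · haveI : Algebra.Smooth R (Localization.Away f) :=
        ⟨formallySmooth_away hQ hn hz f R (fun r => ⟨r, rfl⟩) (Or.inl h0), inferInstance⟩
      exact Groth.Calg4.isReduced_of_smooth R (Localization.Away f)
    · let R₀ := R ⧸ Ideal.span {(2 : R)}
      letI : Algebra R₀ (Localization.Away f) := (Ideal.Quotient.lift _ (algebraMap R (Localization.Away f)) (fun a ha => by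
        obtain ⟨b, rfl⟩ := Ideal.mem_span_singleton'.1 ha
        rw [map_mul, map_ofNat, h20, mul_zero])).toAlgebra
      haveI : IsScalarTower R R₀ (Localization.Away f) := IsScalarTower.of_algebraMap_eq fun r => rfl
      haveI : Algebra.FinitePresentation R₀ (Localization.Away f) :=
        Algebra.FinitePresentation.of_restrict_scalars_finitePresentation R R₀ (Localization.Away f)
      haveI : Algebra.Smooth R₀ (Localization.Away f) :=
        ⟨formallySmooth_away hQ hn hz f R₀ Ideal.Quotient.mk_surjective (Or.inr (by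
          rw [← map_ofNat (Ideal.Quotient.mk (Ideal.span {(2 : R)})) 2]
          exact Ideal.Quotient.eq_zero_iff_mem.2 (Ideal.mem_span_singleton_self _))), inferInstance⟩
      exact Groth.Calg4.isReduced_of_smooth R₀ (Localization.Away f)
  let ι' : Localization.Away f →+* Localization.AtPrime P :=
    IsLocalization.Away.lift (S := Localization.Away f) f (g := algebraMap (C Q) (Localization.AtPrime P))
      (IsLocalization.map_units (Localization.AtPrime P) (⟨f, hf⟩ : P.primeCompl))
  refine ⟨fun x hx => ?_⟩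
  obtain ⟨a, s, rfl⟩ := IsLocalization.exists_mk'_eq P.primeCompl x
  obtain ⟨k, hk⟩ := hx
  rw [← IsLocalization.mk'_pow, IsLocalization.mk'_eq_zero_iff] at hk
  obtain ⟨⟨w, hw⟩, hw0⟩ := hk
  have hn' : IsNilpotent (w * a) := ⟨k + 1, by
    rw [mul_pow, pow_succ w, mul_comm (w ^ k), mul_assoc, pow_succ a]
    linear_combination (w ^ k * a) * hw0⟩
  have h2 := (hn'.map (algebraMap (C Q) (Localization.Away f))).eq_zero
  have h3 := congrArg ι' h2
  rw [map_zero, IsLocalization.Away.lift_eq, map_mul] at h3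
  have h4 := (IsLocalization.map_units (Localization.AtPrime P) (⟨w, hw⟩ : P.primeCompl)).mul_right_eq_zero.1 h3
  rw [IsLocalization.mk'_eq_mul_mk'_one, h4, zero_mul]

theorem not_flat_coord (h2 : _root_.IsRegular (2 : R)) (K : Type u) [Field K] [Algebra R K] (h2K : (2 : K) = 0)
    (hQ : QuadGrp.IsRegular Q) (hn : n = 2 * m) (hz : IsZ Q z) (v : Fin n → R) (hv0 : IsUnit (Q v)) :
    ¬ Module.Flat R (C Q) := by
  classical
  intro hfl
  have hreg : ∀ a : C Q, (2 : C Q) * a = 0 → a = 0 := fun a ha => by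
    refine (Module.Flat.isSMulRegular_of_isRegular (R := R) (M := C Q) (r := (2 : R)) h2) ?_
    change (2 : R) • a = (2 : R) • (0 : C Q)
    rw [smul_zero, ← algebraMap_smul (C Q) (2 : R) a, smul_eq_mul, map_ofNat, ha]
  set y := obst z (ok_univ Q) with hydef
  have hy0 : y = 0 := by
    haveI := free Q
    haveI := finite Q
    let c := Module.Free.chooseBasis R (CliffordAlgebra Q)
    refine (bcBasis Q (C Q) c).ext_elem fun i => ?_
    rw [map_zero, Finsupp.zero_apply]
    refine hreg _ ?_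
    have h := congrArg (fun X => (bcBasis Q (C Q) c).repr X i) (two_smul_obst hQ hn hz (ok_univ Q))
    simpa using h
  have hv : IsUnit (QA Q K ((1 : K) ⊗ₜ[R] v)) := by
    rw [QA_tmul]
    simpa using hv0.map (algebraMap R K)
  let g := refl (QA Q K) ((1 : K) ⊗ₜ[R] v) hv
  have hgd : LinearMap.det g.toLinearMap = 1 := by
    rw [det_refl, eq_comm, eq_neg_iff_add_eq_zero, one_add_one_eq_two, h2K]
  have hgO : g ∈ QuadGrp.O (QA Q K) := refl_mem_O _ hv
  have hok : OK (betaM Q) true K (LinearMap.toMatrix (stdB K) (stdB K) g.toLinearMap) := by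
    obtain ⟨B, hB, hBm⟩ := Quad.bcForm_lift Q K
    have h := (Quad.mem_O_iff_cf (stdB (R := R) K) _ B hB g).1 hgO
    rw [hBm] at h
    exact ⟨LinearEquiv.isUnit_det g _ _, h, fun _ => by rw [LinearMap.det_toMatrix, hgd]⟩
  obtain ⟨ψ, hψ⟩ := Quad.exists_hom _ _ hok
  have h0 : obst z hok = 0 := by rw [← Fmap_obst ψ (ok_univ Q) hok hψ, ← hydef, hy0, map_zero]
  have hgeq : geq hok = g := LinearEquiv.toLinearMap_injective (Matrix.toLin_toMatrix _ _ _)
  obtain ⟨w, hw1, hw2⟩ : ∃ w : (CliffordAlgebra (QA Q K))ˣ, (w : CliffordAlgebra (QA Q K)) ∈ evenOdd (QA Q K) 1 ∧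
      ∀ x, (w : CliffordAlgebra (QA Q K)) * ι (QA Q K) x = -(ι (QA Q K) (g x) * w) := by
    have hu0 : IsUnit (ι (QA Q K) ((1 : K) ⊗ₜ[R] v)) :=
      ((Commute.refl _).isUnit_mul_iff.1 ((ι_sq_scalar (QA Q K) ((1 : K) ⊗ₜ[R] v)).symm ▸ hv.map _)).1
    refine ⟨hu0.unit, ι_mem_evenOdd_one _ _, fun x => ?_⟩
    rw [IsUnit.unit_spec, refl_apply, map_sub, map_smul, sub_mul, smul_mul_assoc, ι_sq_scalar, Algebra.algebraMap_eq_smul_one,
      smul_smul, mul_right_comm, IsUnit.val_inv_mul, one_mul, eq_sub_of_add_eq (ι_mul_ι_add_swap ((1 : K) ⊗ₜ[R] v) x),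
      Algebra.algebraMap_eq_smul_one]
    abel
  have key : ∀ (g' : (K ⊗[R] (Fin n → R)) ≃ₗ[K] (K ⊗[R] (Fin n → R))) (h' : g' ∈ QuadGrp.O (QA Q K)), g' = g →
      cmap h' (bc Q K z) = 1 - bc Q K z := by
    rintro g' h' rfl
    exact cmap_z_of_odd h' (hz.bc K) w hw1 hw2
  rw [obst, key _ (geq_mem hok) hgeq] at h0
  exact (hz.bc K).ne_one_sub (sub_eq_zero.1 h0)

end Groth.Misc12.Cliff.SOPrime
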