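import Groth.Agent.Misc12.Cliff.Local

/-!
The Dickson condition on isometries of regular forms of even rank, in terms of the parity of a versor.
-/

set_option autoImplicit false
set_option linter.unusedSectionVars false

noncomputable section

open QuadraticMap CliffordAlgebra

universe u v

namespace Groth.Misc12.Cliff

variable {R : Type u} [CommRing R] {M : Type v} [AddCommGroup M] [Module R M] {Q : QuadraticForm R M}

namespace IsZ

variable {z : CliffordAlgebra Q}

theorem commute_even (hz : IsZ Q z) {y : CliffordAlgebra Q} (hy : y ∈ evenOdd Q 0) : z * y = y * z := by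
  induction y, hy using CliffordAlgebra.even_induction with
  | algebraMap r => exact (Algebra.commutes r z).symm
  | add x y _ _ hx hy => rw [mul_add, add_mul, hx, hy]
  | ι_mul_ι_mul m₁ m₂ x _ hx =>
    have h : ∀ v, z * ι Q v = ι Q v - ι Q v * z := fun v => eq_sub_of_add_eq' (hz.anti v)
    rw [← mul_assoc, ← mul_assoc, h m₁, sub_mul (ι Q m₁), mul_assoc _ z, h m₂, mul_sub, ← mul_assoc, sub_sub_cancel,
      mul_assoc _ z, hx, ← mul_assoc]

theorem odd_mul (hz : IsZ Q z) {y : CliffordAlgebra Q} (hy : y ∈ evenOdd Q 1) : y * z = (1 - z) * y := by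
  induction y, hy using CliffordAlgebra.odd_induction with
  | ι v => rw [sub_mul, one_mul]; exact eq_sub_of_add_eq (hz.anti v)
  | add x y _ _ hx hy => rw [add_mul, mul_add, hx, hy]
  | ι_mul_ι_mul m₁ m₂ x _ hx =>
    have hcomm := hz.commute_even (ι_mul_ι_mem_evenOdd_zero Q m₁ m₂)
    rw [mul_assoc, hx, ← mul_assoc, mul_sub, mul_one, ← hcomm, sub_mul 1 z, one_mul, sub_mul, mul_assoc]
    simp only [mul_assoc]

theorem mem_center (hz : IsZ Q z) : (⟨z, hz.even⟩ : ↥(CliffordAlgebra.even Q)) ∈ Subalgebra.center R ↥(CliffordAlgebra.even Q) :=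
  Subalgebra.mem_center_iff.2 fun y => Subtype.ext (hz.commute_even y.2).symm

theorem ne_one_sub [Nontrivial R] [Module.Free R M] (hz : IsZ Q z) : 1 - z ≠ z := by
  intro h
  haveI : Nontrivial (CliffordAlgebra Q) := (algebraMap_injective Q).nontrivial
  have h0 : (1 : CliffordAlgebra Q) - 2 • z = 0 := by rw [two_nsmul, ← sub_sub, h, sub_self]
  exact not_isUnit_zero (h0 ▸ hz.isUnit_one_sub)

end IsZ

variable {g : M ≃ₗ[R] M} (hg : g ∈ QuadGrp.O Q)

/-- The induced automorphism. -/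
abbrev cmap : CliffordAlgebra Q →ₐ[R] CliffordAlgebra Q := CliffordAlgebra.map (QuadGrp.isometryOfMem Q g hg)

theorem cmap_ι (v : M) : cmap hg (ι Q v) = ι Q (g v) := CliffordAlgebra.map_apply_ι _ _

theorem cmap_comp {h : M ≃ₗ[R] M} (hh : h ∈ QuadGrp.O Q) (x : CliffordAlgebra Q) :
    cmap (mul_mem hg hh) x = cmap hg (cmap hh x) := by
  have : cmap (mul_mem hg hh) = (cmap hg).comp (cmap hh) := by
    apply CliffordAlgebra.hom_ext
    ext v
    simp [cmap, QuadGrp.isometryOfMem]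
  exact DFunLike.congr_fun this x

theorem cmap_mul_of_even (u : CliffordAlgebra Q) (h : ∀ v, u * ι Q v = ι Q (g v) * u) (x : CliffordAlgebra Q) :
    cmap hg x * u = u * x :=
  conj_of_ι (cmap hg) (AlgHom.id R _) u (fun v => by rw [cmap_ι, AlgHom.id_apply, h]) x

theorem cmap_mul_of_odd (u : CliffordAlgebra Q) (h : ∀ v, u * ι Q v = -(ι Q (g v) * u)) (x : CliffordAlgebra Q) :
    cmap hg x * u = u * involute x :=
  conj_of_ι (cmap hg) involute u (fun v => by rw [cmap_ι, involute_ι, mul_neg, h, neg_neg]) x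

/-- An isometry induced by an even unit fixes the centre of the even part. -/
theorem isDicksonTrivial_of_even (u : (CliffordAlgebra Q)ˣ) (hu : (u : CliffordAlgebra Q) ∈ evenOdd Q 0)
    (h : ∀ v, (u : CliffordAlgebra Q) * ι Q v = ι Q (g v) * u) : QuadGrp.IsDicksonTrivial Q g hg := by
  intro x hx
  have hc : (u : CliffordAlgebra Q) * (x : CliffordAlgebra Q) = (x : CliffordAlgebra Q) * u :=
    congrArg Subtype.val (Subalgebra.mem_center_iff.1 hx ⟨(u : CliffordAlgebra Q), hu⟩)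
  exact u.mul_left_inj.1 ((cmap_mul_of_even hg _ h _).trans hc)

/-- An isometry induced by an odd unit exchanges `z` and `1 - z`. -/
theorem cmap_z_of_odd {z : CliffordAlgebra Q} (hz : IsZ Q z) (u : (CliffordAlgebra Q)ˣ)
    (hu : (u : CliffordAlgebra Q) ∈ evenOdd Q 1)
    (h : ∀ v, (u : CliffordAlgebra Q) * ι Q v = -(ι Q (g v) * u)) : cmap hg z = 1 - z := by
  refine u.mul_left_inj.1 ?_
  rw [cmap_mul_of_odd hg _ h, involute_eq_of_mem_even hz.even, hz.odd_mul hu]

theorem not_isDicksonTrivial_of_odd [Nontrivial R] [Module.Free R M] {z : CliffordAlgebra Q} (hz : IsZ Q z)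
    (u : (CliffordAlgebra Q)ˣ) (hu : (u : CliffordAlgebra Q) ∈ evenOdd Q 1)
    (h : ∀ v, (u : CliffordAlgebra Q) * ι Q v = -(ι Q (g v) * u)) : ¬ QuadGrp.IsDicksonTrivial Q g hg := fun hd =>
  hz.ne_one_sub ((cmap_z_of_odd hg hz u hu h).symm.trans (hd ⟨z, hz.even⟩ hz.mem_center))

theorem mem_GPin'_of_conj (u : (CliffordAlgebra Q)ˣ)
    (h : ∀ v, (u : CliffordAlgebra Q) * ι Q v * ↑u⁻¹ = ι Q (g v)) : u ∈ QuadGrp.GPin' Q := by
  rw [QuadGrp.mem_GPin']
  refine le_antisymm ?_ ?_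
  · rintro x hx
    rw [Submodule.mem_smul_pointwise_iff_exists] at hx
    obtain ⟨_, ⟨v, rfl⟩, rfl⟩ := hx
    rw [ConjAct.units_smul_def, ConjAct.ofConjAct_toConjAct, h]
    exact ⟨g v, rfl⟩
  · rintro _ ⟨v, rfl⟩
    rw [Submodule.mem_smul_pointwise_iff_exists]
    refine ⟨ι Q (g.symm v), ⟨_, rfl⟩, ?_⟩
    rw [ConjAct.units_smul_def, ConjAct.ofConjAct_toConjAct, h, LinearEquiv.apply_symm_apply]

/-- Over a local ring: either the Dickson condition holds and an even unit induces `g`, or an odd one induces `-g`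
and `C(g)` exchanges `z` and `1 - z`. -/
theorem local_dichotomy [IsLocalRing R] [Module.Free R M] [Module.Finite R M] (hQ : QuadGrp.IsRegular Q) {m : ℕ}
    (hM : Module.finrank R M = 2 * m) {z : CliffordAlgebra Q} (hz : IsZ Q z) :
    (QuadGrp.IsDicksonTrivial Q g hg ∧ LinearMap.det g.toLinearMap = 1 ∧ ∃ u : (CliffordAlgebra Q)ˣ,
        (u : CliffordAlgebra Q) ∈ evenOdd Q 0 ∧ ∀ v, (u : CliffordAlgebra Q) * ι Q v = ι Q (g v) * u) ∨
      (¬ QuadGrp.IsDicksonTrivial Q g hg ∧ LinearMap.det g.toLinearMap = -1 ∧ cmap hg z = 1 - z ∧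
        ∃ u : (CliffordAlgebra Q)ˣ, (u : CliffordAlgebra Q) ∈ evenOdd Q 1 ∧
          ∀ v, (u : CliffordAlgebra Q) * ι Q v = -(ι Q (g v) * u)) := by
  obtain ⟨u, ⟨h0, hc, hd⟩ | ⟨h1, hc, hd⟩⟩ := exists_versor hQ hM hg
  · exact Or.inl ⟨isDicksonTrivial_of_even hg u h0 hc, hd, u, h0, hc⟩
  · exact Or.inr ⟨not_isDicksonTrivial_of_odd hg hz u h1 hc, hd, cmap_z_of_odd hg hz u h1 hc, u, h1, hc⟩

end Groth.Misc12.Cliff
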