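import Groth.Prelude.Def_QuadGrp2
import Groth.Agent.Misc12.Cliff.Parity
import Groth.Agent.Misc12.Quad.Lift
import Groth.Agent.S17009

/-!
The coordinate ring of the Clifford group of a regular form of even rank and its formal smoothness.
-/

set_option autoImplicit false
set_option linter.unusedSectionVars false

noncomputable section

open CategoryTheory AlgebraicGeometry CliffordAlgebra
open scoped TensorProduct

universe u

namespace Groth.Misc12.Cliff

variable {R : Type u} [CommRing R] {n : ℕ} {Q : QuadraticForm R (Fin n → R)}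

section Functor

variable {A B : Type u} [CommRing A] [CommRing B] [Algebra R A] [Algebra R B] (φ : A →ₐ[R] B)

/-- `C(Q_A) → C(Q_B)` over `φ`. -/
def Fmap (Q : QuadraticForm R (Fin n → R)) : CliffordAlgebra (QA Q A) →ₐ[R] CliffordAlgebra (QA Q B) :=
  ((ofBC Q B).restrictScalars R).comp
    ((Algebra.TensorProduct.map φ (AlgHom.id R (CliffordAlgebra Q))).comp ((toBC Q A).restrictScalars R))

@[simp]
theorem Fmap_bc (x : CliffordAlgebra Q) : Fmap φ Q (bc Q A x) = bc Q B x := by
  simp [Fmap, toBC_bc, ofBC_tmul]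

theorem Fmap_algebraMap (a : A) : Fmap φ Q (algebraMap A _ a) = algebraMap B _ (φ a) := by
  simp only [Fmap, AlgHom.comp_apply, AlgHom.restrictScalars_apply, AlgHom.commutes, Algebra.TensorProduct.algebraMap_apply,
    Algebra.algebraMap_self, RingHom.id_apply, Algebra.TensorProduct.map_tmul, map_one, ofBC_tmul,
    Algebra.smul_def, mul_one]

theorem Fmap_smul (a : A) (X : CliffordAlgebra (QA Q A)) : Fmap φ Q (a • X) = φ a • Fmap φ Q X := by
  rw [Algebra.smul_def, map_mul, Fmap_algebraMap, ← Algebra.smul_def]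

theorem Fmap_ι (v : A ⊗[R] (Fin n → R)) :
    Fmap φ Q (ι (QA Q A) v) = ι (QA Q B) (LinearMap.rTensor (Fin n → R) φ.toLinearMap v) := by
  induction v using TensorProduct.induction_on with
  | zero => simp
  | tmul a m =>
    rw [LinearMap.rTensor_tmul, show a ⊗ₜ[R] m = a • ((1 : A) ⊗ₜ[R] m) by rw [TensorProduct.smul_tmul', smul_eq_mul, mul_one],
      map_smul, Fmap_smul, ← bc_ι, Fmap_bc, bc_ι, ← map_smul, TensorProduct.smul_tmul', smul_eq_mul, mul_one]
    rfl
  | add x y hx hy => simp only [map_add, hx, hy]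

theorem repr_Fmap {I : Type u} [Fintype I] (c : Module.Basis I R (CliffordAlgebra Q)) (X : CliffordAlgebra (QA Q A)) (i : I) :
    (bcBasis Q B c).repr (Fmap φ Q X) i = φ ((bcBasis Q A c).repr X i) := by
  classical
  have hb : ∀ x, Fmap φ Q (bcBasis Q A c x) = bcBasis Q B c x := fun x => by rw [bcBasis_apply, bcBasis_apply, Fmap_bc]
  conv_lhs => rw [← (bcBasis Q A c).sum_repr X]
  simp only [map_sum, Fmap_smul, hb, map_smul, Module.Basis.repr_self,
    Finsupp.coe_finset_sum, Finset.sum_apply, Finsupp.smul_apply, Finsupp.single_apply, smul_eq_mul, mul_ite, mul_one,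
    mul_zero, Finset.sum_ite_eq', Finset.mem_univ, if_true]

end Functor

/-- The image of a basis vector. -/
def ev (Q : QuadraticForm R (Fin n → R)) (A : Type u) [CommRing A] [Algebra R A] (i : Fin n) : CliffordAlgebra (QA Q A) :=
  bc Q A (ι Q (Pi.single i 1))

theorem ev_eq (A : Type u) [CommRing A] [Algebra R A] (i : Fin n) :
    ev Q A i = ι (QA Q A) (Quad.stdB (R := R) A i) := by
  rw [ev, bc_ι, Quad.stdB_apply]

theorem Fmap_ev {A B : Type u} [CommRing A] [CommRing B] [Algebra R A] [Algebra R B] (φ : A →ₐ[R] B) (i : Fin n) :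
    Fmap φ Q (ev Q A i) = ev Q B i := Fmap_bc φ _

/-- `u e_i = g(e_i) u` for the matrix `G` of `g`. -/
def GOK (Q : QuadraticForm R (Fin n → R)) (A : Type u) [CommRing A] [Algebra R A] (u : CliffordAlgebra (QA Q A))
    (G : Matrix (Fin n) (Fin n) A) : Prop :=
  ∀ i, u * ev Q A i = (∑ j, G j i • ev Q A j) * u

section Pts

variable {A : Type u} [CommRing A] [Algebra R A]

theorem toLin_stdB (G : Matrix (Fin n) (Fin n) A) (i : Fin n) :
    ι (QA Q A) (Matrix.toLin (Quad.stdB (R := R) A) (Quad.stdB (R := R) A) G (Quad.stdB (R := R) A i)) =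
      ∑ j, G j i • ev Q A j := by
  rw [Matrix.toLin_self, map_sum]
  simp only [map_smul, ev_eq]

theorem gok_conj {u : CliffordAlgebra (QA Q A)} {G : Matrix (Fin n) (Fin n) A} (h : GOK Q A u G)
    (v : A ⊗[R] (Fin n → R)) :
    u * ι (QA Q A) v = ι (QA Q A) (Matrix.toLin (Quad.stdB (R := R) A) (Quad.stdB (R := R) A) G v) * u := by
  have : (LinearMap.mulLeft A u) ∘ₗ ι (QA Q A) =
      (LinearMap.mulRight A u) ∘ₗ ι (QA Q A) ∘ₗ Matrix.toLin (Quad.stdB (R := R) A) (Quad.stdB (R := R) A) G := by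
    refine (Quad.stdB (R := R) A).ext fun i => ?_
    simp only [LinearMap.comp_apply, LinearMap.mulLeft_apply, LinearMap.mulRight_apply, toLin_stdB, ← ev_eq]
    exact h i
  exact DFunLike.congr_fun this v

theorem gok_unique {u : (CliffordAlgebra (QA Q A))ˣ} {G G' : Matrix (Fin n) (Fin n) A} (h : GOK Q A u G)
    (h' : GOK Q A u G') : G = G' := by
  refine (Matrix.toLin (Quad.stdB (R := R) A) (Quad.stdB (R := R) A)).injective ((Quad.stdB (R := R) A).ext fun i => ?_)
  refine ι_injective (QA Q A) (u.mul_left_inj.1 ?_)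
  rw [toLin_stdB, toLin_stdB]
  exact (h i).symm.trans (h' i)

theorem gok_ok (hQ : QuadGrp.IsRegular Q) {u : (CliffordAlgebra (QA Q A))ˣ} {G : Matrix (Fin n) (Fin n) A}
    (h : GOK Q A u G) : Quad.OK (Quad.betaM Q) false A G := by
  obtain ⟨B, hB, hBm⟩ := Quad.bcForm_lift Q A
  set b := Quad.stdB (R := R) A
  set g := Matrix.toLin b b G
  have hiso : ∀ v, QA Q A (g v) = QA Q A v := fun v => algebraMap_injective (QA Q A) (by
    rw [← ι_sq_scalar, ← ι_sq_scalar]
    refine u.mul_left_inj.1 ?_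
    rw [mul_assoc, ← gok_conj h, ← mul_assoc, ← gok_conj h, mul_assoc, ι_sq_scalar, Algebra.commutes])
  have hpol : G.transpose * (LinearMap.BilinForm.toMatrix b B + (LinearMap.BilinForm.toMatrix b B).transpose) * G =
      LinearMap.BilinForm.toMatrix b B + (LinearMap.BilinForm.toMatrix b B).transpose := by
    have e1 : LinearMap.BilinForm.toMatrix b (QA Q A).polarBilin =
        LinearMap.BilinForm.toMatrix b B + (LinearMap.BilinForm.toMatrix b B).transpose := by
      ext i j
      simp only [LinearMap.BilinForm.toMatrix_apply, Matrix.add_apply, Matrix.transpose_apply]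
      change QuadraticMap.polar (QA Q A) _ _ = _
      rw [show (QA Q A) = B.toQuadraticMap from hB.symm, LinearMap.BilinMap.polar_toQuadraticMap]
    have e2 : LinearMap.BilinForm.comp (QA Q A).polarBilin g g = (QA Q A).polarBilin := by
      refine LinearMap.ext fun x => LinearMap.ext fun y => ?_
      change QuadraticMap.polar (QA Q A) (g x) (g y) = QuadraticMap.polar (QA Q A) x y
      simp only [QuadraticMap.polar, ← map_add, hiso]
    have e3 := congrArg (LinearMap.BilinForm.toMatrix b) e2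
    rw [LinearMap.BilinForm.toMatrix_comp b b, e1] at e3
    simpa [g, LinearMap.toMatrix_toLin] using e3
  have hP : IsUnit (LinearMap.BilinForm.toMatrix b B + (LinearMap.BilinForm.toMatrix b B).transpose).det := by
    rw [hBm, show (Quad.betaM Q).map (algebraMap R A) + ((Quad.betaM Q).map (algebraMap R A)).transpose =
      (Quad.betaM Q + (Quad.betaM Q).transpose).map (algebraMap R A) by ext i j; simp, ← RingHom.mapMatrix_apply,
      ← RingHom.map_det]
    exact (Quad.isUnit_det_polar hQ).map _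
  have hdet : IsUnit G.det := by
    have h2 := congrArg Matrix.det hpol
    rw [Matrix.det_mul, Matrix.det_mul, Matrix.det_transpose] at h2
    exact isUnit_of_dvd_one ⟨G.det, (hP.mul_right_cancel (by rw [one_mul]; linear_combination h2) : G.det * G.det = 1).symm⟩
  let e : (A ⊗[R] (Fin n → R)) ≃ₗ[A] (A ⊗[R] (Fin n → R)) := Matrix.toLinearEquiv b G hdet
  have he : LinearMap.toMatrix b b e.toLinearMap = G := LinearMap.toMatrix_toLin _ _ _
  have := (Quad.mem_O_iff_cf b (QA Q A) B hB e).1 hiso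
  rw [he, hBm] at this
  exact ⟨hdet, this, fun hs => absurd hs (by decide)⟩

theorem mem_gpin_iff {m : ℕ} (hm : 1 ≤ m) (hn : n = 2 * m) (hQ : QuadGrp.IsRegular Q)
    (u : (CliffordAlgebra (QA Q A))ˣ) : u ∈ QuadGrp.gpin Q A ↔ ∃ G, GOK Q A u G := by
  constructor
  · intro hu
    have h1 : u ∈ QuadGrp.GPin' (QA Q A) := hu.1
    rw [QuadGrp.mem_GPin'] at h1
    have hc : ∀ i, ∃ w, ι (QA Q A) w = (u : CliffordAlgebra (QA Q A)) * ev Q A i * ↑u⁻¹ := fun i => by
      refine (SetLike.ext_iff.1 h1 _).1 ((Submodule.mem_smul_pointwise_iff_exists _ _ _).2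
        ⟨ι (QA Q A) (Quad.stdB (R := R) A i), ⟨_, rfl⟩, ?_⟩)
      rw [ConjAct.units_smul_def, ConjAct.ofConjAct_toConjAct, ev_eq]
    choose w hw using hc
    refine ⟨Matrix.of fun j i => (Quad.stdB (R := R) A).repr (w i) j, fun i => ?_⟩
    have : (∑ j, (Matrix.of fun j i => (Quad.stdB (R := R) A).repr (w i) j) j i • ev Q A j) = ι (QA Q A) (w i) := by
      conv_rhs => rw [← (Quad.stdB (R := R) A).sum_repr (w i), map_sum]
      simp only [map_smul, ev_eq, Matrix.of_apply]
    rw [this, hw, Units.inv_mul_cancel_right]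
  · rintro ⟨G, hG⟩
    have hdet := (gok_ok hQ hG).1
    let e := Matrix.toLinearEquiv (Quad.stdB (R := R) A) G hdet
    have h' : u ∈ QuadGrp.GPin' (QA Q A) := mem_GPin'_of_conj (g := e) u fun v => by
      rw [gok_conj hG, Units.mul_inv_cancel_right]
      rfl
    refine ⟨h', ?_⟩
    rcases subsingleton_or_nontrivial A with hA | hA
    · haveI : Subsingleton (CliffordAlgebra (QA Q A)) := Module.subsingleton A _
      exact ⟨1, IsIdempotentElem.one, by rw [Subsingleton.elim ((1 : A) • (u : CliffordAlgebra (QA Q A))) 0]; exact zero_mem _,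
        by rw [sub_self, zero_smul]; exact zero_mem _⟩
    · have : Nontrivial R := (algebraMap R A).domain_nontrivial
      exact Groth.Agent.S17009.result m hm (by rw [Module.finrank_baseChange, Module.finrank_fin_fun, hn]) (QA Q A)
        (isRegular_QA Q A hQ) h'

end Pts

/-! ### The coordinate ring -/

section Coord

variable (Q)
variable {I : Type u} [Fintype I] (c : Module.Basis I R (CliffordAlgebra Q))

abbrev PolC (R : Type u) [CommRing R] (n : ℕ) (I : Type u) : Type u := MvPolynomial (I ⊕ I ⊕ (Fin n × Fin n)) R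

def genU : CliffordAlgebra (QA Q (PolC R n I)) :=
  ∑ i, (MvPolynomial.X (Sum.inl i) : PolC R n I) • bcBasis Q (PolC R n I) c i

def genW : CliffordAlgebra (QA Q (PolC R n I)) :=
  ∑ i, (MvPolynomial.X (Sum.inr (Sum.inl i)) : PolC R n I) • bcBasis Q (PolC R n I) c i

def genG : Matrix (Fin n) (Fin n) (PolC R n I) := Matrix.of fun i j => MvPolynomial.X (Sum.inr (Sum.inr (i, j)))

/-- The equations. -/
def eqs : (Unit ⊕ Unit ⊕ Fin n) → CliffordAlgebra (QA Q (PolC R n I)) :=
  Sum.elim (fun _ => genU Q c * genW Q c - 1) (Sum.elim (fun _ => genW Q c * genU Q c - 1)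
    (fun i => genU Q c * ev Q (PolC R n I) i - (∑ j, genG (R := R) (n := n) (I := I) j i • ev Q (PolC R n I) j) * genU Q c))

def crels : (Unit ⊕ Unit ⊕ Fin n) × I → PolC R n I := fun p => (bcBasis Q (PolC R n I) c).repr (eqs Q c p.1) p.2

abbrev GCoord : Type u := PolC R n I ⧸ Ideal.span (Set.range (crels Q c))

instance : Algebra.FinitePresentation R (GCoord Q c) :=
  Algebra.FinitePresentation.quotient (Submodule.fg_span (Set.finite_range _))

variable {Q}

theorem Fmap_eqs_zero_iff {A : Type u} [CommRing A] [Algebra R A] (φ : PolC R n I →ₐ[R] A) :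
    (∀ r, φ (crels Q c r) = 0) ↔ ∀ k, Fmap φ Q (eqs Q c k) = 0 := by
  constructor
  · intro h k
    refine (bcBasis Q A c).ext_elem fun i => ?_
    rw [repr_Fmap, map_zero, Finsupp.zero_apply]
    exact h (k, i)
  · intro h r
    rw [crels, ← repr_Fmap, h, map_zero, Finsupp.zero_apply]

/-- The images of the universal data. -/
def uU : CliffordAlgebra (QA Q (GCoord Q c)) := Fmap (Ideal.Quotient.mkₐ R _) Q (genU Q c)

def uW : CliffordAlgebra (QA Q (GCoord Q c)) := Fmap (Ideal.Quotient.mkₐ R _) Q (genW Q c)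

def uG : Matrix (Fin n) (Fin n) (GCoord Q c) :=
  (genG (R := R) (n := n) (I := I)).map (Ideal.Quotient.mkₐ R (Ideal.span (Set.range (crels Q c))))

theorem eqs_univ (k : Unit ⊕ Unit ⊕ Fin n) :
    Fmap (Ideal.Quotient.mkₐ R (Ideal.span (Set.range (crels Q c)))) Q (eqs Q c k) = 0 :=
  (Fmap_eqs_zero_iff c _).1 (fun r => Ideal.Quotient.eq_zero_iff_mem.2 (Ideal.subset_span (Set.mem_range_self r))) k

/-- The universal unit. -/
def uUnit : (CliffordAlgebra (QA Q (GCoord Q c)))ˣ where
  val := uU c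
  inv := uW c
  val_inv := by
    have h := eqs_univ c (Sum.inl ())
    rwa [eqs, Sum.elim_inl, map_sub, map_mul, map_one, sub_eq_zero] at h
  inv_val := by
    have h := eqs_univ c (Sum.inr (Sum.inl ()))
    rwa [eqs, Sum.elim_inr, Sum.elim_inl, map_sub, map_mul, map_one, sub_eq_zero] at h

theorem gok_univ : GOK Q (GCoord Q c) (uUnit c : CliffordAlgebra (QA Q (GCoord Q c))) (uG c) := by
  intro i
  have h := eqs_univ c (Sum.inr (Sum.inr i))
  simp only [eqs, Sum.elim_inr, map_sub, map_mul, map_sum, Fmap_smul, Fmap_ev, sub_eq_zero] at h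
  exact h

theorem GOK.map {A B : Type u} [CommRing A] [CommRing B] [Algebra R A] [Algebra R B] {u : CliffordAlgebra (QA Q A)}
    {G : Matrix (Fin n) (Fin n) A} (h : GOK Q A u G) (φ : A →ₐ[R] B) : GOK Q B (Fmap φ Q u) (G.map φ) := by
  intro i
  have := congrArg (Fmap φ Q) (h i)
  simpa only [map_mul, map_sum, Fmap_smul, Fmap_ev, Matrix.map_apply] using this

theorem Fmap_comp {A B D : Type u} [CommRing A] [CommRing B] [CommRing D] [Algebra R A] [Algebra R B] [Algebra R D]
    (φ : A →ₐ[R] B) (ψ : B →ₐ[R] D) (X : CliffordAlgebra (QA Q A)) :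
    Fmap ψ Q (Fmap φ Q X) = Fmap (ψ.comp φ) Q X := by
  classical
  have := free Q
  have := finite Q
  let c := Module.Free.chooseBasis R (CliffordAlgebra Q)
  refine (bcBasis Q D c).ext_elem fun i => ?_
  rw [repr_Fmap, repr_Fmap, repr_Fmap]
  rfl

theorem repr_genU (i : I) : (bcBasis Q (PolC R n I) c).repr (genU Q c) i = MvPolynomial.X (Sum.inl i) := by
  rw [genU, Module.Basis.repr_sum_self]

theorem repr_genW (i : I) : (bcBasis Q (PolC R n I) c).repr (genW Q c) i = MvPolynomial.X (Sum.inr (Sum.inl i)) := by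
  rw [genW, Module.Basis.repr_sum_self]

theorem gcoord_ext {A : Type u} [CommRing A] [Algebra R A] {φ ψ : GCoord Q c →ₐ[R] A}
    (h : Fmap φ Q (uU c) = Fmap ψ Q (uU c)) : φ = ψ := by
  have hu : Units.map (Fmap φ Q).toRingHom.toMonoidHom (uUnit c) = Units.map (Fmap ψ Q).toRingHom.toMonoidHom (uUnit c) :=
    Units.ext h
  have hW : Fmap φ Q (uW c) = Fmap ψ Q (uW c) := congrArg (fun x : (CliffordAlgebra (QA Q A))ˣ => (↑x⁻¹ : CliffordAlgebra (QA Q A))) hu
  have hG : (uG c).map φ = (uG c).map ψ := by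
    refine gok_unique (u := Units.map (Fmap φ Q).toRingHom.toMonoidHom (uUnit c)) ((gok_univ c).map φ) ?_
    rw [hu]
    exact (gok_univ c).map ψ
  refine Ideal.Quotient.algHom_ext _ (MvPolynomial.algHom_ext fun o => ?_)
  rcases o with i | i | ⟨i, j⟩
  · have := congrArg (fun X => (bcBasis Q A c).repr X i) h
    simp only [uU, repr_Fmap, repr_genU] at this
    exact this
  · have := congrArg (fun X => (bcBasis Q A c).repr X i) hW
    simp only [uW, repr_Fmap, repr_genW] at this
    exact this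
  · exact congrFun (congrFun hG i) j

theorem exists_gcoord_hom {A : Type u} [CommRing A] [Algebra R A] (u : (CliffordAlgebra (QA Q A))ˣ)
    {G : Matrix (Fin n) (Fin n) A} (h : GOK Q A u G) :
    ∃ φ : GCoord Q c →ₐ[R] A, Fmap φ Q (uU c) = u ∧ (uG c).map φ = G := by
  let φ₀ : PolC R n I →ₐ[R] A := MvPolynomial.aeval
    (Sum.elim (fun i => (bcBasis Q A c).repr (u : CliffordAlgebra (QA Q A)) i)
      (Sum.elim (fun i => (bcBasis Q A c).repr (↑u⁻¹ : CliffordAlgebra (QA Q A)) i) (fun p => G p.1 p.2)))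
  have hU : Fmap φ₀ Q (genU Q c) = u := (bcBasis Q A c).ext_elem fun i => by
    rw [repr_Fmap, repr_genU, MvPolynomial.aeval_X, Sum.elim_inl]
  have hW : Fmap φ₀ Q (genW Q c) = ↑u⁻¹ := (bcBasis Q A c).ext_elem fun i => by
    rw [repr_Fmap, repr_genW, MvPolynomial.aeval_X, Sum.elim_inr, Sum.elim_inl]
  have hG : ∀ i j, φ₀ (genG (R := R) (n := n) (I := I) i j) = G i j := fun i j => MvPolynomial.aeval_X _ _
  have hz : ∀ r, φ₀ (crels Q c r) = 0 := by
    rw [Fmap_eqs_zero_iff]
    rintro (_ | _ | i)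
    · simp only [eqs, Sum.elim_inl, map_sub, map_mul, map_one, hU, hW, Units.mul_inv, sub_self]
    · simp only [eqs, Sum.elim_inr, Sum.elim_inl, map_sub, map_mul, map_one, hU, hW, Units.inv_mul, sub_self]
    · simp only [eqs, Sum.elim_inr, map_sub, map_mul, map_sum, Fmap_smul, Fmap_ev, hU, hG, h i, sub_self]
  refine ⟨Ideal.Quotient.liftₐ _ φ₀ ?_, ?_, ?_⟩
  · intro a ha
    rw [← RingHom.mem_ker]
    refine Ideal.span_le.2 ?_ ha
    rintro _ ⟨r, rfl⟩
    exact hz r
  · rw [uU, Fmap_comp]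
    exact hU
  · ext i j
    exact hG i j

end Coord

/-! ### Lifting -/

theorem isUnit_of_Fmap_mk {I : Type u} [Fintype I] (c : Module.Basis I R (CliffordAlgebra Q)) {A : Type u} [CommRing A]
    [Algebra R A] {J : Ideal A} (hJ : J ^ 2 = ⊥) {X : CliffordAlgebra (QA Q A)}
    (hX : IsUnit (Fmap (Ideal.Quotient.mkₐ R J) Q X)) : IsUnit X := by
  set F := Fmap (Ideal.Quotient.mkₐ R J) Q
  have key : ∀ Z, F Z = 1 → IsUnit Z := by
    intro Z hZ
    have hd : ∀ i, (bcBasis Q A c).repr (1 - Z) i ∈ J := fun i => by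
      rw [← Ideal.Quotient.eq_zero_iff_mem]
      change Ideal.Quotient.mkₐ R J _ = 0
      rw [← repr_Fmap, map_sub, map_one, hZ, sub_self, map_zero, Finsupp.zero_apply]
    have hsq : (1 - Z) * (1 - Z) = 0 := by
      rw [← (bcBasis Q A c).sum_repr (1 - Z), Finset.sum_mul]
      refine Finset.sum_eq_zero fun i _ => ?_
      rw [Finset.mul_sum]
      refine Finset.sum_eq_zero fun j _ => ?_
      rw [smul_mul_assoc, mul_smul_comm, smul_smul, Quad.mul_eq_zero_of_mem hJ (hd i) (hd j), zero_smul]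
    have hn : IsNilpotent (1 - Z) := ⟨2, by rw [pow_two]; exact hsq⟩
    have := hn.isUnit_one_sub
    rwa [sub_sub_cancel] at this
  choose lift hlift using Ideal.Quotient.mk_surjective (I := J)
  let Y := ∑ i, lift ((bcBasis Q (A ⧸ J) c).repr (↑hX.unit⁻¹ : CliffordAlgebra (QA Q (A ⧸ J))) i) • bcBasis Q A c i
  have hY : F Y = ↑hX.unit⁻¹ := by
    refine (bcBasis Q (A ⧸ J) c).ext_elem fun i => ?_
    rw [repr_Fmap, Module.Basis.repr_sum_self]
    exact hlift _
  have h1 : IsUnit (X * Y) := key _ (by rw [map_mul, hY, IsUnit.mul_val_inv])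
  have h2 : IsUnit (Y * X) := key _ (by rw [map_mul, hY, IsUnit.val_inv_mul])
  exact isUnit_iff_exists_and_exists.2
    ⟨⟨Y * ↑h1.unit⁻¹, by rw [← mul_assoc, IsUnit.mul_val_inv]⟩, ⟨↑h2.unit⁻¹ * Y, by rw [mul_assoc, IsUnit.val_inv_mul]⟩⟩

theorem formallySmooth_gcoord {I : Type u} [Fintype I] (c : Module.Basis I R (CliffordAlgebra Q)) {m : ℕ}
    (hn : n = 2 * m) (hQ : QuadGrp.IsRegular Q) : Algebra.FormallySmooth R (GCoord Q c) := by
  rw [Algebra.FormallySmooth.iff_comp_surjective]
  intro A _ _ J hJ φ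
  set π := Ideal.Quotient.mkₐ R J
  set ub := Units.map (Fmap φ Q).toRingHom.toMonoidHom (uUnit c) with hub
  have hgok : GOK Q (A ⧸ J) (ub : CliffordAlgebra (QA Q (A ⧸ J))) ((uG c).map φ) := (gok_univ c).map φ
  obtain ⟨G, hG, hGb⟩ := Quad.lift_regular (Quad.isUnit_det_polar hQ) false (fun h => absurd h (by decide)) hJ
    (gok_ok hQ hgok)
  obtain ⟨B, hB, hBm⟩ := Quad.bcForm_lift Q A
  let g := Matrix.toLinearEquiv (Quad.stdB (R := R) A) G hG.1
  have hgO : g ∈ QuadGrp.O (QA Q A) :=
    (Quad.mem_O_iff_cf (Quad.stdB (R := R) A) (QA Q A) B hB g).2 (by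
      rw [show LinearMap.toMatrix (Quad.stdB (R := R) A) (Quad.stdB (R := R) A) g.toLinearMap = G from
        LinearMap.toMatrix_toLin _ _ _, hBm]
      exact hG.2.1)
  rcases subsingleton_or_nontrivial R with hR | hR
  · haveI : Subsingleton A := Module.subsingleton R A
    haveI : Subsingleton (A ⧸ J) := Module.subsingleton R _
    obtain ⟨ψ, -, -⟩ := exists_gcoord_hom c (1 : (CliffordAlgebra (QA Q A))ˣ) (G := (1 : Matrix (Fin n) (Fin n) A))
      (fun i => by haveI := Module.subsingleton A (CliffordAlgebra (QA Q A)); exact Subsingleton.elim _ _)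
    exact ⟨ψ, AlgHom.ext fun x => Subsingleton.elim _ _⟩
  obtain ⟨p, hp⟩ := exists_sep_global (M := Fin n → R) hQ (m := m) (by rw [Module.finrank_fin_fun, hn])
  let α : CliffordAlgebra Q →ₐ[R] CliffordAlgebra (QA Q A) := ((cmap hgO).restrictScalars R).comp (bc Q A)
  have hαe : ∀ i, α (ι Q (Pi.single i 1)) = ∑ j, G j i • ev Q A j := fun i => by
    change cmap hgO (bc Q A (ι Q (Pi.single i 1))) = _
    rw [bc_ι, cmap_ι, ← Quad.stdB_apply]
    exact toLin_stdB G i
  choose lift hlift using Ideal.Quotient.mk_surjective (I := J)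
  let u1 := ∑ i, lift ((bcBasis Q (A ⧸ J) c).repr (ub : CliffordAlgebra (QA Q (A ⧸ J))) i) • bcBasis Q A c i
  have hu1 : Fmap π Q u1 = ub := by
    refine (bcBasis Q (A ⧸ J) c).ext_elem fun i => ?_
    rw [repr_Fmap, Module.Basis.repr_sum_self]
    exact hlift _
  let T := sand α (bc Q A) p u1
  have hFbc : (Fmap π Q).comp (bc Q A) = bc Q (A ⧸ J) := AlgHom.ext fun x => Fmap_bc π x
  have hT : Fmap π Q T = ub := by
    change Fmap π Q (sand α (bc Q A) p u1) = _
    rw [map_sand, hu1, hFbc]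
    refine hp.fix _ _ fun x => ?_
    induction x using CliffordAlgebra.induction with
    | algebraMap r => rw [AlgHom.commutes, AlgHom.commutes, Algebra.commutes]
    | ι v =>
      rw [← (Pi.basisFun R (Fin n)).sum_repr v]
      simp only [map_sum, map_smul, Finset.sum_mul, Finset.mul_sum, smul_mul_assoc, mul_smul_comm, Pi.basisFun_apply]
      refine Finset.sum_congr rfl fun i _ => congrArg _ ?_
      change Fmap π Q (α (ι Q (Pi.single i 1))) * _ = _ * bc Q (A ⧸ J) (ι Q (Pi.single i 1))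
      rw [hαe, map_sum]
      simp only [Fmap_smul, Fmap_ev]
      refine Eq.trans ?_ (hgok i).symm
      congr 1
      refine Finset.sum_congr rfl fun j _ => ?_
      rw [← hGb]
      rfl
    | mul x y hx hy => rw [map_mul, map_mul, mul_assoc, hy, ← mul_assoc, hx, mul_assoc]
    | add x y hx hy => rw [map_add, map_add, add_mul, mul_add, hx, hy]
  have hTu : IsUnit T := isUnit_of_Fmap_mk c hJ (by rw [hT]; exact ub.isUnit)
  have hgokT : GOK Q A (hTu.unit : CliffordAlgebra (QA Q A)) G := fun i => by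
    rw [IsUnit.unit_spec, ← hαe]
    exact (hp.twist α (bc Q A) (ι Q (Pi.single i 1)) u1).symm
  obtain ⟨ψ, hψ, -⟩ := exists_gcoord_hom c hTu.unit hgokT
  refine ⟨ψ, gcoord_ext c ?_⟩
  rw [← Fmap_comp, hψ, IsUnit.unit_spec]
  exact hT

/-! ### The representing scheme -/

open MonObj in
theorem smooth_isAffineHom_gPin {m : ℕ} (hm : 1 ≤ m) (hn : n = 2 * m) (hQ : QuadGrp.IsRegular Q)
    (G : Over (Spec (CommRingCat.of R))) [GrpObj G] (D : QuadGrp.GPinRep Q G) :
    AlgebraicGeometry.Smooth G.hom ∧ IsAffineHom G.hom := by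
  classical
  haveI := free Q
  haveI := finite Q
  let c := Module.Free.chooseBasis R (CliffordAlgebra Q)
  set C := GCoord Q c
  have hmem : uUnit c ∈ QuadGrp.gpin Q C := (mem_gpin_iff hm hn hQ _).2 ⟨_, gok_univ c⟩
  let e0 : ↥(QuadGrp.gpin Q C) := ⟨uUnit c, hmem⟩
  let u : QuadGrp.specOver R C ⟶ G := MulEquiv.symm (D.pts C) e0
  have hnat : ∀ (A : Type u) [CommRing A] [Algebra R A] (φ : C →ₐ[R] A),
      ((((D.pts A) (QuadGrp.specOverMap R φ ≫ u) : ↥(QuadGrp.gpin Q A)) : (CliffordAlgebra (QA Q A))ˣ) :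
        CliffordAlgebra (QA Q A)) = Fmap φ Q (uU c) := by
    intro A _ _ φ
    rw [D.natural C A φ (Fmap φ Q).toRingHom (Fmap_ι φ) (Fmap_algebraMap φ) u, MulEquiv.apply_symm_apply]
    rfl
  have hpts : ∀ (A : Type u) [CommRing A] [Algebra R A],
      Function.Bijective fun y : QuadGrp.specOver R A ⟶ QuadGrp.specOver R C => y ≫ u := by
    intro A _ _
    have hy : ∀ y : QuadGrp.specOver R A ⟶ QuadGrp.specOver R C, ∃ φ : C →ₐ[R] A, y = QuadGrp.specOverMap R φ := by
      intro y
      obtain ⟨f, hf⟩ := Spec.map_surjective y.left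
      have hw := Over.w y
      change y.left ≫ Spec.map _ = Spec.map _ at hw
      have hw2 : Spec.map (CommRingCat.ofHom (algebraMap R C) ≫ f) = Spec.map (CommRingCat.ofHom (algebraMap R A)) :=
        (Spec.map_comp _ _).trans ((congrArg (fun e => e ≫ Spec.map (CommRingCat.ofHom (algebraMap R C))) hf).trans hw)
      have hw' := CommRingCat.hom_ext_iff.1 (Spec.map_injective hw2)
      exact ⟨⟨f.hom, fun r => RingHom.congr_fun hw' r⟩, Over.OverMorphism.ext hf.symm⟩
    constructor
    · intro y y' hyy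
      obtain ⟨φ, rfl⟩ := hy y
      obtain ⟨φ', rfl⟩ := hy y'
      have h1 := hnat A φ
      rw [show QuadGrp.specOverMap R φ ≫ u = QuadGrp.specOverMap R φ' ≫ u from hyy, hnat A φ'] at h1
      rw [gcoord_ext c h1.symm]
    · intro g
      obtain ⟨G', hG'⟩ := (mem_gpin_iff hm hn hQ _).1 (D.pts A g).2
      obtain ⟨φ, hφ, -⟩ := exists_gcoord_hom c _ hG'
      refine ⟨QuadGrp.specOverMap R φ, (D.pts A).injective (Subtype.ext (Units.ext ?_))⟩
      exact (hnat A φ).trans hφ
  have := Quad.isIso_of_points u hpts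
  have hw : u.left ≫ G.hom = Spec.map (CommRingCat.ofHom (algebraMap R C)) := Over.w u
  refine ⟨?_, ?_⟩
  · have hs : AlgebraicGeometry.Smooth (u.left ≫ G.hom) := by
      rw [hw]
      refine (HasRingHomProperty.Spec_iff (P := @AlgebraicGeometry.Smooth.{u}) (φ := CommRingCat.ofHom (algebraMap R C))).2 ?_
      rw [CommRingCat.hom_ofHom, RingHom.smooth_algebraMap]
      exact ⟨formallySmooth_gcoord c hn hQ, inferInstance⟩
    exact IsIso.inv_hom_id_assoc u.left G.hom ▸ inferInstance
  · have ha : IsAffineHom (u.left ≫ G.hom) := by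
      rw [hw]
      change IsAffineHom (X := Spec (CommRingCat.of C)) (Spec.map (CommRingCat.ofHom (algebraMap R C)))
      exact isAffineHom_of_isAffine _
    exact IsIso.inv_hom_id_assoc u.left G.hom ▸ inferInstance

end Groth.Misc12.Cliff
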