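import Groth.Agent.Misc12.Cliff.Planes
import Mathlib.LinearAlgebra.Reflection
import Mathlib.LinearAlgebra.Transvection.Basic
import Mathlib.Algebra.Polynomial.Roots
import Mathlib.LinearAlgebra.Charpoly.BaseChange

/-!
Over a local ring with infinite residue field the orthogonal group of a regular form of even rank is generated by
reflections; hence every isometry is induced, up to the sign of its parity, by a homogeneous unit of the Clifford
algebra, and its determinant is that sign.
-/

set_option autoImplicit false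
set_option linter.unusedSectionVars false

noncomputable section

open QuadraticMap CliffordAlgebra

universe u v

namespace Groth.Misc12.Cliff

variable {R : Type u} [CommRing R] {M : Type v} [AddCommGroup M] [Module R M]

/-- The reflection in an anisotropic vector. -/
def refl (Q : QuadraticForm R M) (v : M) (hv : IsUnit (Q v)) : M ≃ₗ[R] M :=
  Module.reflection (x := v) (f := (↑hv.unit⁻¹ : R) • Q.polarBilin v) (by
    rw [LinearMap.smul_apply, polarBilin_apply_apply, polar_self, nsmul_eq_mul, smul_eq_mul, Nat.cast_ofNat,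
      mul_left_comm, IsUnit.val_inv_mul, mul_one])

variable {Q : QuadraticForm R M}

theorem refl_apply (v : M) (hv : IsUnit (Q v)) (x : M) :
    refl Q v hv x = x - (↑hv.unit⁻¹ * polar Q v x : R) • v := by
  rw [refl, Module.reflection_apply]; rfl

theorem refl_mem_O (v : M) (hv : IsUnit (Q v)) : refl Q v hv ∈ QuadGrp.O Q := fun x => by
  rw [refl_apply, sub_eq_add_neg, ← neg_smul, QuadraticMap.map_add (⇑Q), QuadraticMap.map_smul, polar_smul_right,
    polar_comm _ x v, smul_eq_mul, smul_eq_mul]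
  linear_combination (↑hv.unit⁻¹ * polar Q v x * polar Q v x) * hv.val_inv_mul

theorem refl_of_polar_eq_zero (v : M) (hv : IsUnit (Q v)) (x : M) (h : polar Q v x = 0) : refl Q v hv x = x := by
  rw [refl_apply, h, mul_zero, zero_smul, sub_zero]

variable (Q) in
/-- The group generated by reflections. -/
def reflGroup : Subgroup (M ≃ₗ[R] M) := Subgroup.closure {g | ∃ v, ∃ hv : IsUnit (Q v), g = refl Q v hv}

theorem refl_mem (v : M) (hv : IsUnit (Q v)) : refl Q v hv ∈ reflGroup Q := Subgroup.subset_closure ⟨v, hv, rfl⟩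

theorem reflGroup_le_O : reflGroup Q ≤ QuadGrp.O Q := by
  refine (Subgroup.closure_le _).2 ?_
  rintro g ⟨v, hv, rfl⟩
  exact refl_mem_O v hv

theorem polar_map {g : M ≃ₗ[R] M} (hg : g ∈ QuadGrp.O Q) (x y : M) : polar Q (g x) (g y) = polar Q x y := by
  simp only [polar, ← map_add, (QuadGrp.mem_O Q g).1 hg]

/-- `refl v` exchanges `x` and `y` when `v = x - y`. -/
theorem refl_sub {x y : M} (h : Q x = Q y) (hv : IsUnit (Q (x - y))) : refl Q (x - y) hv x = y := by
  have hB : polar Q (x - y) x = Q (x - y) := by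
    rw [sub_eq_add_neg, ← neg_one_smul R y, polar_add_left, polar_smul_left, polar_self, QuadraticMap.map_add (⇑Q),
      QuadraticMap.map_smul, polar_smul_right, polar_comm _ y x, smul_eq_mul, smul_eq_mul, nsmul_eq_mul, Nat.cast_ofNat]
    linear_combination h
  rw [refl_apply, hB, IsUnit.val_inv_mul, one_smul, sub_sub_cancel]

section Local

variable [IsLocalRing R]

open IsLocalRing Polynomial

theorem exists_units_on_line (hinf : Infinite (ResidueField R)) (x0 x1 y1 y2 : M) (h0 : IsUnit (Q x0))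
    (h1 : IsUnit (polar Q y1 x1)) (h2 : IsUnit (polar Q y2 x1)) :
    ∃ t : R, IsUnit (Q (x0 + t • x1)) ∧ IsUnit (polar Q y1 (x0 + t • x1)) ∧ IsUnit (polar Q y2 (x0 + t • x1)) := by
  let ρ := residue R
  let q : (ResidueField R)[X] :=
    (C (ρ (Q x0)) + C (ρ (polar Q x0 x1)) * X + C (ρ (Q x1)) * X ^ 2) *
      (C (ρ (polar Q y1 x0)) + C (ρ (polar Q y1 x1)) * X) * (C (ρ (polar Q y2 x0)) + C (ρ (polar Q y2 x1)) * X)
  have hu : ∀ r : R, ρ r ≠ 0 → IsUnit r := fun r hr => residue_ne_zero_iff_isUnit r |>.1 hr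
  have hne : ∀ r : R, IsUnit r → ρ r ≠ 0 := fun r hr => residue_ne_zero_iff_isUnit r |>.2 hr
  have hq : q ≠ 0 := by
    refine mul_ne_zero (mul_ne_zero ?_ ?_) ?_
    · intro h
      exact hne _ h0 (by simpa using congrArg (fun p => p.coeff 0) h)
    · intro h
      exact hne _ h1 (by simpa using congrArg (fun p => p.coeff 1) h)
    · intro h
      exact hne _ h2 (by simpa using congrArg (fun p => p.coeff 1) h)
  haveI := hinf
  obtain ⟨t₀, ht⟩ : ∃ t, q.eval t ≠ 0 := by
    by_contra h
    push Not at h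
    exact hq (Polynomial.funext fun t => by rw [h, eval_zero])
  obtain ⟨t, rfl⟩ := residue_surjective (R := R) t₀
  simp only [q, eval_mul, eval_add, eval_C, eval_X, eval_pow, mul_ne_zero_iff] at ht
  refine ⟨t, hu _ ?_, hu _ ?_, hu _ ?_⟩
  · convert ht.1.1 using 1
    rw [QuadraticMap.map_add (⇑Q), QuadraticMap.map_smul, polar_smul_right]
    simp only [smul_eq_mul, map_add, map_mul, ρ]
    ring
  · convert ht.1.2 using 1
    rw [polar_add_right, polar_smul_right]
    simp only [smul_eq_mul, map_add, map_mul, ρ]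
    ring
  · convert ht.2 using 1
    rw [polar_add_right, polar_smul_right]
    simp only [smul_eq_mul, map_add, map_mul, ρ]
    ring

/-- Moving `x` to `y` by reflections fixing the vectors of `S`. -/
theorem exists_move (hinf : Infinite (ResidueField R)) (S : Set M) {x y : M} (hxy : Q x = Q y) (x0 w1 w2 : M)
    (hS : ∀ s ∈ S, polar Q s x0 = 0 ∧ polar Q s w1 = 0 ∧ polar Q s w2 = 0 ∧ polar Q s (x - y) = 0)
    (h0 : IsUnit (Q x0)) (h1 : IsUnit (polar Q y w1)) (h2 : IsUnit (polar Q x w2)) :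
    ∃ t ∈ reflGroup Q, (∀ s ∈ S, t s = s) ∧ t x = y := by
  by_cases hd : IsUnit (Q (x - y))
  · refine ⟨_, refl_mem _ hd, fun s hs => refl_of_polar_eq_zero _ hd s ?_, refl_sub hxy hd⟩
    rw [polar_comm]
    exact (hS s hs).2.2.2
  obtain ⟨x1, hx1S, hx1y, hx1x⟩ : ∃ x1, (∀ s ∈ S, polar Q s x1 = 0) ∧ IsUnit (polar Q y x1) ∧ IsUnit (polar Q x x1) := by
    by_cases ha : IsUnit (polar Q x w1)
    · exact ⟨w1, fun s hs => (hS s hs).2.1, h1, ha⟩
    by_cases hb : IsUnit (polar Q y w2)
    · exact ⟨w2, fun s hs => (hS s hs).2.2.1, hb, h2⟩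
    refine ⟨w1 + w2, fun s hs => by rw [polar_add_right, (hS s hs).2.1, (hS s hs).2.2.1, add_zero], ?_, ?_⟩
    · rw [polar_add_right]
      refine notMem_maximalIdeal.1 fun hm => notMem_maximalIdeal.2 h1 ?_
      simpa using sub_mem hm ((mem_maximalIdeal _).2 hb)
    · rw [polar_add_right]
      refine notMem_maximalIdeal.1 fun hm => notMem_maximalIdeal.2 h2 ?_
      simpa using sub_mem hm ((mem_maximalIdeal _).2 ha)
  obtain ⟨t, ht0, ht1, ht2⟩ := exists_units_on_line hinf x0 x1 y x h0 hx1y hx1x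
  set z := x0 + t • x1 with hz
  have hzS : ∀ s ∈ S, polar Q s z = 0 := fun s hs => by
    rw [hz, polar_add_right, polar_smul_right, (hS s hs).1, hx1S s hs, smul_zero, add_zero]
  set x' := refl Q z ht0 x with hx'
  have hx'y : Q x' = Q y := ((QuadGrp.mem_O Q _).1 (refl_mem_O z ht0) x).trans hxy
  have hd' : IsUnit (Q (x' - y)) := by
    have : Q (x' - y) = Q (x - y) + (↑ht0.unit⁻¹ * polar Q z x) * polar Q z y := by
      simp only [sub_eq_add_neg, ← neg_one_smul R y, QuadraticMap.map_add (⇑Q), QuadraticMap.map_smul, polar_smul_right,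
        hx'y, ← hxy, smul_eq_mul]
      rw [hx', refl_apply, sub_eq_add_neg, ← neg_smul, polar_add_left, polar_smul_left, smul_eq_mul]
      ring
    rw [this]
    refine notMem_maximalIdeal.1 fun hm => notMem_maximalIdeal.2
      (((Units.isUnit ht0.unit⁻¹).mul (show IsUnit (polar Q z x) by rwa [polar_comm])).mul (show IsUnit (polar Q z y) by rwa [polar_comm])) ?_
    simpa using sub_mem hm ((mem_maximalIdeal _).2 hd)
  refine ⟨_, mul_mem (refl_mem _ hd') (refl_mem z ht0), fun s hs => ?_, ?_⟩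
  · change refl Q (x' - y) hd' (refl Q z ht0 s) = s
    rw [refl_of_polar_eq_zero z ht0 s (by rw [polar_comm]; exact hzS s hs), refl_of_polar_eq_zero _ hd' s]
    rw [polar_comm, hx', refl_apply, sub_right_comm, sub_eq_add_neg, ← neg_smul, polar_add_right, polar_smul_right,
      (hS s hs).2.2.2, hzS s hs, smul_zero, add_zero]
  · change refl Q (x' - y) hd' (refl Q z ht0 x) = y
    exact refl_sub hx'y hd'

theorem exists_fix_planes (hinf : Infinite (ResidueField R)) {m : ℕ} (P : Planes Q m) {g : M ≃ₗ[R] M}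
    (hg : g ∈ QuadGrp.O Q) : ∃ s ∈ reflGroup Q, ∀ i : Fin m, s (g (P.a i)) = P.a i ∧ s (g (P.b i)) = P.b i := by
  suffices H : ∀ j ≤ m, ∃ s ∈ reflGroup Q, ∀ i : Fin m, i.val < j → s (g (P.a i)) = P.a i ∧ s (g (P.b i)) = P.b i by
    obtain ⟨s, hs, hfix⟩ := H m le_rfl
    exact ⟨s, hs, fun i => hfix i i.is_lt⟩
  intro j hj
  induction j with
  | zero => exact ⟨1, one_mem _, fun i hi => absurd hi (Nat.not_lt_zero _)⟩
  | succ j ih =>
    obtain ⟨s, hs, hfix⟩ := ih (by omega)
    have hO : s * g ∈ QuadGrp.O Q := mul_mem (reflGroup_le_O hs) hg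
    set h := s * g with hh
    have hha : ∀ i : Fin m, i.val < j → h (P.a i) = P.a i ∧ h (P.b i) = P.b i := hfix
    let k : Fin m := ⟨j, by omega⟩
    let S : Set M := {x | ∃ i : Fin m, i.val < j ∧ (x = P.a i ∨ x = P.b i)}
    have hSh : ∀ x ∈ S, h x = x := by
      rintro x ⟨i, hi, rfl | rfl⟩
      exacts [(hha i hi).1, (hha i hi).2]
    have hne : ∀ i : Fin m, i.val < j → i ≠ k := fun i hi h => by simp [h, k] at hi
    have hSa : ∀ x ∈ S, polar Q x (P.a k) = 0 := by
      rintro x ⟨i, hi, rfl | rfl⟩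
      exacts [P.aa i k (hne i hi), P.ba' i k (hne i hi)]
    have hSb : ∀ x ∈ S, polar Q x (P.b k) = 0 := by
      rintro x ⟨i, hi, rfl | rfl⟩
      exacts [P.ab' i k (hne i hi), P.bb i k (hne i hi)]
    have hSh' : ∀ x ∈ S, ∀ y, polar Q x (h y) = polar Q x y := fun x hx y => by
      conv_lhs => rw [← hSh x hx]
      exact polar_map hO x y
    obtain ⟨t, ht, htS, hta⟩ := exists_move hinf S (x := h (P.a k)) (y := P.a k) ((QuadGrp.mem_O Q h).1 hO _)
      (P.a k) (P.b k) (h (P.b k))
      (fun x hx => ⟨hSa x hx, hSb x hx, by rw [hSh' x hx, hSb x hx],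
        by rw [sub_eq_add_neg, ← neg_one_smul R (P.a k), polar_add_right, polar_smul_right, hSh' x hx, hSa x hx, smul_zero, add_zero]⟩)
      (P.aniso k) (by rw [P.ab]; exact isUnit_one) (by rw [polar_map hO, P.ab]; exact isUnit_one)
    have hO' : t * h ∈ QuadGrp.O Q := mul_mem (reflGroup_le_O ht) hO
    set h' := t * h with hh'
    let S' : Set M := insert (P.a k) S
    have hS'h : ∀ x ∈ S', h' x = x := by
      rintro x (rfl | hx)
      · exact hta
      · change t (h x) = x
        rw [hSh x hx, htS x hx]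
    have hS'h' : ∀ x ∈ S', ∀ y, polar Q x (h' y) = polar Q x y := fun x hx y => by
      conv_lhs => rw [← hS'h x hx]
      exact polar_map hO' x y
    set c := (2 * Q (P.a k)) • P.b k + (-1 : R) • P.a k with hc
    have hS'c : ∀ x ∈ S', polar Q x c = 0 := by
      rintro x (rfl | hx)
      · rw [hc, polar_add_right, polar_smul_right, polar_smul_right, polar_self, P.ab, smul_eq_mul, smul_eq_mul, nsmul_eq_mul,
          Nat.cast_ofNat]
        ring
      · rw [hc, polar_add_right, polar_smul_right, polar_smul_right, hSa x hx, hSb x hx, smul_zero, smul_zero, add_zero]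
    have hbc : IsUnit (polar Q (P.b k) c) := by
      rw [hc, polar_add_right, polar_smul_right, polar_smul_right, polar_self, P.ba, smul_eq_mul, smul_eq_mul, nsmul_eq_mul,
        Nat.cast_ofNat]
      convert (P.disc k).neg using 1
      ring
    have hQc : IsUnit (Q c) := by
      convert ((P.aniso k).mul (P.disc k)).neg using 1
      rw [hc, QuadraticMap.map_add (⇑Q), QuadraticMap.map_smul, QuadraticMap.map_smul, polar_smul_left, polar_smul_right,
        P.ba, smul_eq_mul, smul_eq_mul, smul_eq_mul, smul_eq_mul]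
      ring
    have hS'b : ∀ x ∈ S', polar Q x (h' (P.b k) - P.b k) = 0 := fun x hx => by
      rw [sub_eq_add_neg, ← neg_one_smul R (P.b k), polar_add_right, polar_smul_right, hS'h' x hx, smul_eq_mul]
      ring
    obtain ⟨t', ht', ht'S, htb⟩ := exists_move hinf S' (x := h' (P.b k)) (y := P.b k) ((QuadGrp.mem_O Q h').1 hO' _)
      c c (h' c) (fun x hx => ⟨hS'c x hx, hS'c x hx, by rw [hS'h' x hx, hS'c x hx], hS'b x hx⟩)
      hQc hbc (by rw [polar_map hO']; exact hbc)
    refine ⟨t' * (t * s), mul_mem ht' (mul_mem ht hs), fun i hi => ?_⟩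
    have key : ∀ v, (t' * (t * s)) (g v) = t' (h' v) := fun v => rfl
    rw [key, key]
    rcases Nat.lt_succ_iff_lt_or_eq.1 hi with hi | hi
    · constructor
      · rw [hS'h _ (Set.mem_insert_of_mem _ ⟨i, hi, Or.inl rfl⟩), ht'S _ (Set.mem_insert_of_mem _ ⟨i, hi, Or.inl rfl⟩)]
      · rw [hS'h _ (Set.mem_insert_of_mem _ ⟨i, hi, Or.inr rfl⟩), ht'S _ (Set.mem_insert_of_mem _ ⟨i, hi, Or.inr rfl⟩)]
    · obtain rfl : i = k := Fin.ext hi
      exact ⟨by rw [hS'h _ (Set.mem_insert _ _), ht'S _ (Set.mem_insert _ _)], htb⟩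

theorem mem_reflGroup [Module.Free R M] [Module.Finite R M] (hinf : Infinite (ResidueField R)) {m : ℕ}
    (hM : Module.finrank R M = 2 * m) (P : Planes Q m) {g : M ≃ₗ[R] M} (hg : g ∈ QuadGrp.O Q) : g ∈ reflGroup Q := by
  obtain ⟨s, hs, hfix⟩ := exists_fix_planes hinf P hg
  have hsg : s * g = 1 := LinearEquiv.ext fun v => by
    change s (g v) = v
    rw [← P.sum_eq hM v]
    simp only [map_sum, map_add, map_smul, (hfix _).1, (hfix _).2]
  rw [show g = s⁻¹ by rw [eq_inv_iff_mul_eq_one]; exact mul_eq_one_comm.1 hsg]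
  exact inv_mem hs

end Local

/-! ### Versors -/

/-- `g` is induced by the even unit `u`, with determinant one, or by the odd unit `u` up to sign, with determinant `-1`. -/
def Versor (Q : QuadraticForm R M) (g : M ≃ₗ[R] M) : Prop :=
  ∃ u : (CliffordAlgebra Q)ˣ,
    ((u : CliffordAlgebra Q) ∈ evenOdd Q 0 ∧
        (∀ v, (u : CliffordAlgebra Q) * ι Q v = ι Q (g v) * u) ∧ LinearMap.det g.toLinearMap = 1) ∨
      ((u : CliffordAlgebra Q) ∈ evenOdd Q 1 ∧
        (∀ v, (u : CliffordAlgebra Q) * ι Q v = -(ι Q (g v) * u)) ∧ LinearMap.det g.toLinearMap = -1)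

theorem inv_mem_evenOdd (u : (CliffordAlgebra Q)ˣ) {i : ZMod 2} (h : (u : CliffordAlgebra Q) ∈ evenOdd Q i) :
    (↑u⁻¹ : CliffordAlgebra Q) ∈ evenOdd Q i := by
  rcases ((by decide : ∀ j : ZMod 2, j = 0 ∨ j = 1) i) with rfl | rfl
  · have := QuadGrp.isLocHomog_inv_aux Q u 1 (by simpa using h) (by simp)
    simpa using this.1
  · have := QuadGrp.isLocHomog_inv_aux Q u 0 (by simp) (by simpa using h)
    simpa using this.2

theorem det_refl [Module.Free R M] [Module.Finite R M] (v : M) (hv : IsUnit (Q v)) :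
    LinearMap.det (refl Q v hv).toLinearMap = -1 := by
  have : (refl Q v hv).toLinearMap = LinearMap.transvection (-((↑hv.unit⁻¹ : R) • Q.polarBilin v)) v := by
    refine LinearMap.ext fun x => ?_
    rw [LinearEquiv.coe_coe, refl_apply, LinearMap.transvection.apply, LinearMap.neg_apply, LinearMap.smul_apply,
      polarBilin_apply_apply, neg_smul, smul_eq_mul, sub_eq_add_neg]
  rw [this, LinearMap.transvection.det, LinearMap.neg_apply, LinearMap.smul_apply, polarBilin_apply_apply, polar_self,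
    nsmul_eq_mul, smul_eq_mul, Nat.cast_ofNat]
  linear_combination (-2) * hv.val_inv_mul

theorem versor_of_mem_reflGroup [Module.Free R M] [Module.Finite R M] {g : M ≃ₗ[R] M} (hg : g ∈ reflGroup Q) :
    Versor Q g := by
  induction hg using Subgroup.closure_induction with
  | mem g hg =>
    obtain ⟨v, hv, rfl⟩ := hg
    let u : (CliffordAlgebra Q)ˣ := ⟨ι Q v, (↑hv.unit⁻¹ : R) • ι Q v,
      by rw [mul_smul_comm, ι_sq_scalar, Algebra.smul_def, ← map_mul, IsUnit.val_inv_mul, map_one],
      by rw [smul_mul_assoc, ι_sq_scalar, Algebra.smul_def, ← map_mul, IsUnit.val_inv_mul, map_one]⟩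
    refine ⟨u, Or.inr ⟨ι_mem_evenOdd_one Q v, fun x => ?_, det_refl v hv⟩⟩
    change ι Q v * ι Q x = -(ι Q (refl Q v hv x) * ι Q v)
    rw [refl_apply, map_sub, map_smul, sub_mul, smul_mul_assoc, ι_sq_scalar, Algebra.smul_def, ← map_mul (algebraMap R (CliffordAlgebra Q)),
      mul_right_comm, IsUnit.val_inv_mul, one_mul, ← ι_mul_ι_add_swap]
    abel
  | one =>
    refine ⟨1, Or.inl ⟨by simpa using SetLike.one_mem_graded _, fun v => by simp, ?_⟩⟩
    exact LinearMap.det_id
  | mul g h _ _ hg hh =>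
    obtain ⟨u, hu⟩ := hg
    obtain ⟨w, hw⟩ := hh
    have hdet : LinearMap.det (g * h).toLinearMap = LinearMap.det g.toLinearMap * LinearMap.det h.toLinearMap := by
      rw [← LinearMap.det_comp]; rfl
    refine ⟨u * w, ?_⟩
    rcases hu with ⟨hu0, huc, hud⟩ | ⟨hu0, huc, hud⟩ <;> rcases hw with ⟨hw0, hwc, hwd⟩ | ⟨hw0, hwc, hwd⟩
    · exact Or.inl ⟨by simpa using SetLike.mul_mem_graded hu0 hw0,
        fun v => by rw [Units.val_mul, mul_assoc, hwc, ← mul_assoc, huc, mul_assoc]; rfl,
        by rw [hdet, hud, hwd, one_mul]⟩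
    · exact Or.inr ⟨by simpa using SetLike.mul_mem_graded hu0 hw0,
        fun v => by rw [Units.val_mul, mul_assoc, hwc, mul_neg, ← mul_assoc, huc, mul_assoc]; rfl,
        by rw [hdet, hud, hwd, one_mul]⟩
    · exact Or.inr ⟨by simpa using SetLike.mul_mem_graded hu0 hw0,
        fun v => by rw [Units.val_mul, mul_assoc, hwc, ← mul_assoc, huc, neg_mul, mul_assoc]; rfl,
        by rw [hdet, hud, hwd, mul_one]⟩
    · exact Or.inl ⟨by simpa [show (1 : ZMod 2) + 1 = 0 from rfl] using SetLike.mul_mem_graded hu0 hw0,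
        fun v => by rw [Units.val_mul, mul_assoc, hwc, mul_neg, ← mul_assoc, huc, neg_mul, neg_neg, mul_assoc]; rfl,
        by rw [hdet, hud, hwd, neg_one_mul, neg_neg]⟩
  | inv g _ hg =>
    obtain ⟨u, hu⟩ := hg
    refine ⟨u⁻¹, ?_⟩
    have hdet : ∀ d : R, d * d = 1 → LinearMap.det g.toLinearMap = d → LinearMap.det (g⁻¹).toLinearMap = d := by
      intro d hd h
      have : LinearMap.det (g⁻¹).toLinearMap * LinearMap.det g.toLinearMap = 1 := by
        rw [← LinearMap.det_comp, show (g⁻¹).toLinearMap ∘ₗ g.toLinearMap = LinearMap.id from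
          LinearMap.ext fun x => g.symm_apply_apply x, LinearMap.det_id]
      rw [h] at this
      linear_combination d * this - LinearMap.det (g⁻¹).toLinearMap * hd
    rcases hu with ⟨hu0, huc, hud⟩ | ⟨hu0, huc, hud⟩
    · refine Or.inl ⟨inv_mem_evenOdd u hu0, fun v => ?_, hdet 1 (one_mul 1) hud⟩
      have := huc (g⁻¹ v)
      rw [show g (g⁻¹ v) = v from g.apply_symm_apply v] at this
      rw [Units.inv_mul_eq_iff_eq_mul, ← mul_assoc, this, mul_assoc, Units.mul_inv, mul_one]
    · refine Or.inr ⟨inv_mem_evenOdd u hu0, fun v => ?_, hdet (-1) (by norm_num) hud⟩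
      have := huc (g⁻¹ v)
      rw [show g (g⁻¹ v) = v from g.apply_symm_apply v] at this
      rw [Units.inv_mul_eq_iff_eq_mul, mul_neg, ← mul_assoc, this, neg_mul, neg_neg, mul_assoc, Units.mul_inv, mul_one]

end Groth.Misc12.Cliff
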