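import Groth.Agent.Misc12.Cliff.Sep
import Groth.Agent.Misc12.Cliff.Versor
import Mathlib.RingTheory.Norm.Basic
import Mathlib.RingTheory.Polynomial.Basic
import Mathlib.RingTheory.Localization.AtPrime.Basic

/-!
Over any local ring, every isometry of a regular form of even rank is induced by a homogeneous unit of the Clifford
algebra, with the determinant given by its parity.
-/

set_option autoImplicit false
set_option linter.unusedSectionVars false

noncomputable section

open scoped TensorProduct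
open QuadraticMap CliffordAlgebra

universe u v w

namespace Groth.Misc12.Cliff

variable {R : Type u} [CommRing R] {M : Type v} [AddCommGroup M] [Module R M] {Q : QuadraticForm R M}

/-! ### Grading -/

theorem sum_decompose (x : CliffordAlgebra Q) :
    x = (DirectSum.decompose (evenOdd Q) x 0 : CliffordAlgebra Q) + (DirectSum.decompose (evenOdd Q) x 1 : CliffordAlgebra Q) := by
  classical
  conv_lhs => rw [← DirectSum.sum_support_decompose (evenOdd Q) x]
  rw [Finset.sum_subset (Finset.subset_univ _) (fun i _ hi => by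
    rw [DFinsupp.notMem_support_iff.mp hi, ZeroMemClass.coe_zero])]
  exact Fin.sum_univ_two _

theorem eq_zero_of_mem_mem {x : CliffordAlgebra Q} (h0 : x ∈ evenOdd Q 0) (h1 : x ∈ evenOdd Q 1) : x = 0 := by
  rw [← DirectSum.decompose_of_mem_same (evenOdd Q) h0]
  exact DirectSum.decompose_of_mem_ne (evenOdd Q) h1 (by decide)

/-! ### The element `z` -/

namespace IsZ

variable {z : CliffordAlgebra Q} (hz : IsZ Q z)

include hz in
theorem anti_one_sub (v : M) : ι Q v * (1 - 2 • z) = -((1 - 2 • z) * ι Q v) := by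
  rw [eq_neg_iff_add_eq_zero]
  simp only [mul_sub, sub_mul, mul_one, one_mul, two_nsmul, mul_add, add_mul]
  rw [show ι Q v - (ι Q v * z + ι Q v * z) + (ι Q v - (z * ι Q v + z * ι Q v)) =
    2 • ι Q v - 2 • (ι Q v * z + z * ι Q v) by rw [two_nsmul, two_nsmul]; abel, hz.anti, sub_self]

include hz in
theorem isUnit_one_sub : IsUnit (1 - 2 • z) := by
  obtain ⟨q, hq, hzz⟩ := hz.sq
  have h : (1 - 2 • z) * (1 - 2 • z) = algebraMap R _ (1 + 4 * q) := by
    simp only [two_nsmul, mul_sub, sub_mul, mul_one, one_mul, mul_add, add_mul, hzz, Algebra.algebraMap_eq_smul_one]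
    module
  exact ((Commute.refl (1 - 2 • z)).isUnit_mul_iff.1 (h ▸ hq.map _)).1

/-- `w = 1 - 2 z`. -/
def W : (CliffordAlgebra Q)ˣ := hz.isUnit_one_sub.unit

theorem anti_W (v : M) : ι Q v * (hz.W : CliffordAlgebra Q) = -((hz.W : CliffordAlgebra Q) * ι Q v) := hz.anti_one_sub v

theorem W_mem : (hz.W : CliffordAlgebra Q) ∈ evenOdd Q 0 :=
  sub_mem (SetLike.one_mem_graded _) (nsmul_mem hz.even _)

include hz in
theorem exists_sep [Module.Free R M] [Module.Finite R M] (hQ : QuadGrp.IsRegular Q) :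
    ∃ p : CliffordAlgebra Q ⊗[R] (CliffordAlgebra Q)ᵐᵒᵖ, IsSep p :=
  (sand_id_bijective Q hQ hz.W hz.anti_W).2

include hz in
theorem bc [Module.Free R M] (A : Type w) [CommRing A] [Algebra R A] :
    IsZ (QA Q A) (Cliff.bc Q A z) := by
  refine ⟨bc_mem_evenOdd Q A hz.even, fun x => ?_, ?_⟩
  · induction x using TensorProduct.induction_on with
    | zero => simp
    | tmul a v =>
      rw [show a ⊗ₜ[R] v = a • ((1 : A) ⊗ₜ[R] v) by rw [TensorProduct.smul_tmul', smul_eq_mul, mul_one]]
      simp only [map_smul, smul_mul_assoc, mul_smul_comm, ← smul_add, ← bc_ι, ← map_mul, ← map_add, hz.anti]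
    | add x y hx hy => rw [map_add, mul_add, add_mul, add_add_add_comm, hx, hy]
  · obtain ⟨q, hq, hzz⟩ := hz.sq
    refine ⟨algebraMap R A q, ?_, ?_⟩
    · simpa [map_ofNat] using hq.map (algebraMap R A)
    · rw [← map_mul, hzz, map_add, AlgHom.commutes, ← IsScalarTower.algebraMap_apply]

end IsZ

/-- Planes base change. -/
def Planes.bc [Module.Free R M] (A : Type w) [CommRing A] [Algebra R A] {k : ℕ} (P : Planes Q k) :
    Planes (QA Q A) k where
  a i := (1 : A) ⊗ₜ[R] P.a i
  b i := (1 : A) ⊗ₜ[R] P.b i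
  ab i := by rw [polar_QA, P.ab, map_one]
  aa i j h := by rw [polar_QA, P.aa i j h, map_zero]
  bb i j h := by rw [polar_QA, P.bb i j h, map_zero]
  ab' i j h := by rw [polar_QA, P.ab' i j h, map_zero]
  disc i := by
    rw [QA_one_tmul, QA_one_tmul]
    simpa [map_ofNat] using (P.disc i).map (algebraMap R A)
  aniso i := by
    rw [QA_one_tmul]
    exact (P.aniso i).map _

theorem baseChange_mem_O [Module.Free R M] (A : Type w) [CommRing A] [Algebra R A] {g : M ≃ₗ[R] M}
    (hg : g ∈ QuadGrp.O Q) : g.baseChange R A M M ∈ QuadGrp.O (QA Q A) := by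
  intro x
  have : (QA Q A).comp (g.baseChange R A M M).toLinearMap = QA Q A := by
    refine baseChange_ext fun v => ?_
    rw [QuadraticMap.comp_apply, LinearEquiv.coe_coe, LinearEquiv.baseChange_tmul, QA_one_tmul, QA_one_tmul,
      (QuadGrp.mem_O Q g).1 hg]
  exact QuadraticMap.congr_fun this x

/-- Conjugation relation for all elements from the one for vectors. -/
theorem conj_of_ι {A : Type*} [Ring A] [Algebra R A] (α β : CliffordAlgebra Q →ₐ[R] A) (u : A)
    (h : ∀ v, α (ι Q v) * u = u * β (ι Q v)) (x : CliffordAlgebra Q) : α x * u = u * β x := by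
  induction x using CliffordAlgebra.induction with
  | algebraMap r => rw [AlgHom.commutes, AlgHom.commutes, Algebra.commutes]
  | ι v => exact h v
  | mul x y hx hy => rw [map_mul, map_mul, mul_assoc, hy, ← mul_assoc, hx, mul_assoc]
  | add x y hx hy => rw [map_add, map_add, add_mul, mul_add, hx, hy]

theorem commute_all_of_commute_bc [Module.Free R M] (A : Type w) [CommRing A] [Algebra R A]
    {c : CliffordAlgebra (QA Q A)} (h : ∀ x, Cliff.bc Q A x * c = c * Cliff.bc Q A x)
    (y : CliffordAlgebra (QA Q A)) : y * c = c * y := by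
  obtain ⟨t, rfl⟩ := (bcEquiv Q A).symm.surjective y
  change ofBC Q A t * c = c * ofBC Q A t
  induction t using TensorProduct.induction_on with
  | zero => simp
  | tmul a x => rw [ofBC_tmul, smul_mul_assoc, mul_smul_comm, h]
  | add x y hx hy => rw [map_add, add_mul, mul_add, hx, hy]

theorem isUnit_of_bc [Module.Free R M] [Module.Finite R M] (A : Type w) [CommRing A] [Algebra R A]
    [IsLocalHom (algebraMap R A)] {x : CliffordAlgebra Q} (hx : IsUnit (Cliff.bc Q A x)) : IsUnit x := by
  haveI := free Q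
  haveI := finite Q
  let L := LinearMap.mulLeft R x
  let E : CliffordAlgebra (QA Q A) ≃ₗ[A] A ⊗[R] CliffordAlgebra Q := (bcEquiv Q A).toLinearEquiv
  let LA : CliffordAlgebra (QA Q A) →ₗ[A] CliffordAlgebra (QA Q A) := Algebra.lmul A _ (Cliff.bc Q A x)
  have hconj : E.toLinearMap ∘ₗ LA ∘ₗ E.symm.toLinearMap = L.baseChange A := by
    refine TensorProduct.AlgebraTensorModule.ext fun a y => ?_
    change toBC Q A (Cliff.bc Q A x * ofBC Q A (a ⊗ₜ y)) = a ⊗ₜ (x * y)
    rw [ofBC_tmul, mul_smul_comm, map_smul, ← map_mul, toBC_bc, TensorProduct.smul_tmul', smul_eq_mul, mul_one]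
  haveI := free (QA Q A)
  haveI := finite (QA Q A)
  have hd : IsUnit (LinearMap.det L) := by
    refine isUnit_of_map_unit (algebraMap R A) _ ?_
    rw [← LinearMap.det_baseChange, ← hconj, LinearMap.det_conj]
    exact (hx.map (Algebra.lmul A (CliffordAlgebra (QA Q A)))).map LinearMap.det
  obtain ⟨y, hy⟩ := (LinearMap.equivOfIsUnitDet hd).surjective 1
  have hxy : x * y = 1 := by rw [LinearMap.equivOfIsUnitDet_apply] at hy; exact hy
  have hyx : y * x = 1 := (LinearMap.equivOfIsUnitDet hd).injective (by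
    rw [LinearMap.equivOfIsUnitDet_apply, LinearMap.equivOfIsUnitDet_apply]
    change x * (y * x) = x * 1
    rw [← mul_assoc, hxy, one_mul, mul_one])
  exact ⟨⟨x, y, hxy, hyx⟩, rfl⟩

theorem mem_evenOdd_of_bc [Module.Free R M] (A : Type w) [CommRing A] [Algebra R A]
    (hinj : Function.Injective (algebraMap R A)) {x : CliffordAlgebra Q} {i : ZMod 2}
    (hx : Cliff.bc Q A x ∈ evenOdd (QA Q A) i) : x ∈ evenOdd Q i := by
  classical
  set x0 : CliffordAlgebra Q := ↑(DirectSum.decompose (evenOdd Q) x 0) with hx0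
  set x1 : CliffordAlgebra Q := ↑(DirectSum.decompose (evenOdd Q) x 1) with hx1
  have h0 : x0 ∈ evenOdd Q 0 := SetLike.coe_mem _
  have h1 : x1 ∈ evenOdd Q 1 := SetLike.coe_mem _
  have hs : x = x0 + x1 := sum_decompose x
  have hb0 := bc_mem_evenOdd Q A h0
  have hb1 := bc_mem_evenOdd Q A h1
  rcases (by decide : ∀ j : ZMod 2, j = 0 ∨ j = 1) i with rfl | rfl
  · have : x1 = 0 := bc_injective Q A hinj (by
      rw [map_zero]
      refine eq_zero_of_mem_mem ?_ hb1
      have := sub_mem hx hb0
      rwa [hs, map_add, add_sub_cancel_left] at this)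
    rw [hs, this, add_zero]
    exact h0
  · have : x0 = 0 := bc_injective Q A hinj (by
      rw [map_zero]
      refine eq_zero_of_mem_mem hb0 ?_
      have := sub_mem hx hb1
      rwa [hs, map_add, add_sub_cancel_right] at this)
    rw [hs, this, zero_add]
    exact h1

/-! ### A faithfully flat local extension with infinite residue field -/

section Nag

variable (R) [IsLocalRing R]

instance mapC_isPrime : (Ideal.map (Polynomial.C : R →+* Polynomial R) (IsLocalRing.maximalIdeal R)).IsPrime :=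
  Ideal.isPrime_map_C_of_isPrime

/-- `R(X)`. -/
abbrev Nag : Type u := Localization.AtPrime (Ideal.map (Polynomial.C : R →+* Polynomial R) (IsLocalRing.maximalIdeal R))

theorem nag_injective : Function.Injective (algebraMap R (Nag R)) := by
  refine (injective_iff_map_eq_zero _).2 fun r hr => ?_
  rw [IsScalarTower.algebraMap_apply R (Polynomial R) (Nag R), IsLocalization.map_eq_zero_iff
    (Ideal.map (Polynomial.C : R →+* Polynomial R) (IsLocalRing.maximalIdeal R)).primeCompl] at hr
  obtain ⟨⟨s, hs⟩, hsr⟩ := hr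
  change s ∉ Ideal.map (Polynomial.C : R →+* Polynomial R) (IsLocalRing.maximalIdeal R) at hs
  rw [Ideal.mem_map_C_iff] at hs
  push Not at hs
  obtain ⟨n, hn⟩ := hs
  have := congrArg (fun p => Polynomial.coeff p n) hsr
  simp only [Polynomial.algebraMap_apply, Algebra.algebraMap_self, RingHom.id_apply, Polynomial.coeff_mul_C,
    Polynomial.coeff_zero] at this
  exact ((IsLocalRing.notMem_maximalIdeal.1 hn).mul_right_eq_zero).1 this

instance nag_isLocalHom : IsLocalHom (algebraMap R (Nag R)) := by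
  refine ⟨fun r hr => ?_⟩
  by_contra h
  rw [IsScalarTower.algebraMap_apply R (Polynomial R) (Nag R),
    IsLocalization.AtPrime.isUnit_to_map_iff (Nag R) (Ideal.map (Polynomial.C : R →+* Polynomial R) (IsLocalRing.maximalIdeal R))] at hr
  exact hr (Ideal.mem_map_of_mem _ ((IsLocalRing.mem_maximalIdeal _).2 h))

theorem nag_infinite : Infinite (IsLocalRing.ResidueField (Nag R)) := by
  refine Infinite.of_injective (fun n : ℕ => IsLocalRing.residue (Nag R) (algebraMap (Polynomial R) (Nag R) (Polynomial.X ^ n)))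
    fun i j h => ?_
  by_contra hne
  dsimp only at h
  rw [← sub_eq_zero, ← map_sub, ← map_sub, IsLocalRing.residue_eq_zero_iff,
    IsLocalization.AtPrime.to_map_mem_maximal_iff (Nag R) (Ideal.map (Polynomial.C : R →+* Polynomial R) (IsLocalRing.maximalIdeal R)),
    Ideal.mem_map_C_iff] at h
  have := h i
  simp [Polynomial.coeff_X_pow, hne] at this

end Nag

/-! ### The local structure theorem -/

theorem exists_versor_of_ext [IsLocalRing R] [Module.Free R M] [Module.Finite R M] (hQ : QuadGrp.IsRegular Q) {m : ℕ}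
    (hM : Module.finrank R M = 2 * m) {g : M ≃ₗ[R] M} (hg : g ∈ QuadGrp.O Q) (A : Type w) [CommRing A] [Algebra R A]
    [IsLocalRing A] [IsLocalHom (algebraMap R A)] (hinj : Function.Injective (algebraMap R A))
    (hinf : Infinite (IsLocalRing.ResidueField A)) : Versor Q g := by
  classical
  obtain ⟨P⟩ := exists_planes hQ hM
  obtain ⟨z, hz⟩ := P.exists_isZ hM
  obtain ⟨p, hp⟩ := hz.exists_sep hQ
  have hzA := hz.bc A
  obtain ⟨pA, hpA⟩ := hzA.exists_sep (isRegular_QA Q A hQ)
  have hgA := baseChange_mem_O A hg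
  obtain ⟨u', hu'⟩ := versor_of_mem_reflGroup (mem_reflGroup hinf
    (by rw [Module.finrank_baseChange, hM]) (P.bc A) hgA)
  let φ := CliffordAlgebra.map (QuadGrp.isometryOfMem Q g hg)
  have hφ : ∀ v, φ (ι Q v) = ι Q (g v) := fun v => by
    rw [CliffordAlgebra.map_apply_ι]; rfl
  let bcA := Cliff.bc Q A
  let α := bcA.comp φ
  have hα : ∀ v, α (ι Q v) = ι (QA Q A) (g.baseChange R A M M ((1 : A) ⊗ₜ[R] v)) := fun v => by
    simp only [α, bcA, AlgHom.comp_apply, hφ, bc_ι, LinearEquiv.baseChange_tmul]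
  -- a unit over `A` intertwining exactly
  set dA : A := LinearMap.det (g.baseChange R A M M).toLinearMap with hdA
  have hex : ∃ u'' : (CliffordAlgebra (QA Q A))ˣ, (∀ x, α x * (u'' : CliffordAlgebra (QA Q A)) = (u'' : CliffordAlgebra (QA Q A)) * bcA x) ∧
      (((u'' : CliffordAlgebra (QA Q A)) ∈ evenOdd (QA Q A) 0 ∧ dA = 1) ∨
        ((u'' : CliffordAlgebra (QA Q A)) ∈ evenOdd (QA Q A) 1 ∧ dA = -1)) := by
    clear hα
    have hα : ∀ v, α (ι Q v) = ι (QA Q A) (g.baseChange R A M M ((1 : A) ⊗ₜ[R] v)) := fun v => by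
      simp only [α, bcA, AlgHom.comp_apply, hφ, bc_ι, LinearEquiv.baseChange_tmul]
    rcases hu' with ⟨h0, hc, hd⟩ | ⟨h1, hc, hd⟩
    · exact ⟨u', conj_of_ι α bcA _ (fun v => by rw [hα, bc_ι, hc]), Or.inl ⟨h0, hd⟩⟩
    · refine ⟨u' * hzA.W, conj_of_ι α bcA _ (fun v => ?_), Or.inr ⟨?_, hd⟩⟩
      · rw [hα, bc_ι, Units.val_mul, ← mul_assoc, ← neg_neg (ι (QA Q A) _ * (u' : CliffordAlgebra (QA Q A))), ← hc,
          neg_mul, mul_assoc, hzA.anti_W, mul_neg, neg_neg, mul_assoc]
      · rw [Units.val_mul]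
        simpa using SetLike.mul_mem_graded h1 hzA.W_mem
  obtain ⟨u'', hconj, hcase⟩ := hex
  haveI := free Q
  haveI := finite Q
  let c := Module.Free.chooseBasis R (CliffordAlgebra Q)
  let T := sand φ (AlgHom.id R _) p
  have hT : ∀ y, bcA (T y) = sand α bcA p (bcA y) := fun y => by
    rw [map_sand]; rfl
  have hs : ∀ y, ∃ s : A, bcA (T y) = (u'' : CliffordAlgebra (QA Q A)) * algebraMap A _ s := by
    intro y
    set X := bcA (T y) with hX
    have htw : ∀ x, α x * X = X * bcA x := fun x => by rw [hX, hT]; exact hp.twist α bcA x _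
    obtain ⟨s, hs⟩ := hpA.center (c := (↑u''⁻¹ : CliffordAlgebra (QA Q A)) * X)
      (commute_all_of_commute_bc A fun x => by
        have h1 : bcA x * (↑u''⁻¹ : CliffordAlgebra (QA Q A)) = (↑u''⁻¹ : CliffordAlgebra (QA Q A)) * α x := by
          rw [Units.eq_inv_mul_iff_mul_eq, ← mul_assoc, ← hconj, Units.mul_inv_cancel_right]
        change bcA x * _ = _ * bcA x
        rw [← mul_assoc, h1, mul_assoc, htw, mul_assoc])
    exact ⟨s, by rw [hs, Units.mul_inv_cancel_left]⟩
  choose s hs using hs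
  have hsum : ∑ i, (bcBasis Q A c).repr (u'' : CliffordAlgebra (QA Q A)) i * s (c i) = 1 := by
    apply algebraMap_injective (QA Q A)
    rw [map_one]
    apply (Units.mul_right_inj u'').1
    rw [mul_one, map_sum, Finset.mul_sum]
    conv_rhs => rw [← hp.fix α bcA hconj, ← (bcBasis Q A c).sum_repr (u'' : CliffordAlgebra (QA Q A)), map_sum]
    refine Finset.sum_congr rfl fun i _ => ?_
    rw [sand_smul, bcBasis_apply, ← hT, hs, map_mul, ← mul_smul_comm, Algebra.smul_def]
  obtain ⟨i, hi⟩ : ∃ i, IsUnit (s (c i)) := by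
    by_contra h
    push Not at h
    refine (IsLocalRing.maximalIdeal A).ne_top_iff_one.1 (Ideal.IsPrime.ne_top inferInstance) ?_
    rw [← hsum]
    exact sum_mem fun i _ => Ideal.mul_mem_left _ _ ((IsLocalRing.mem_maximalIdeal _).2 (h i))
  have hbu : IsUnit (bcA (T (c i))) := by rw [hs]; exact u''.isUnit.mul (hi.map _)
  have hu : IsUnit (T (c i)) := isUnit_of_bc A hbu
  set u := hu.unit with hudef
  have huv : ∀ v, (u : CliffordAlgebra Q) * ι Q v = ι Q (g v) * u := fun v => by
    rw [← hφ]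
    exact (hp.twist φ (AlgHom.id R _) (ι Q v) (c i)).symm
  have hpar : ∀ j, (u'' : CliffordAlgebra (QA Q A)) ∈ evenOdd (QA Q A) j → (u : CliffordAlgebra Q) ∈ evenOdd Q j :=
    fun j hj => mem_evenOdd_of_bc A hinj (by
      change bcA (T (c i)) ∈ _
      rw [hs, ← Algebra.commutes, ← Algebra.smul_def]
      exact Submodule.smul_mem _ _ hj)
  have hdet : dA = algebraMap R A (LinearMap.det g.toLinearMap) :=
    LinearMap.det_baseChange g.toLinearMap
  rw [hdet] at hcase
  rcases hcase with ⟨h0, hd⟩ | ⟨h1, hd⟩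
  · exact ⟨u, Or.inl ⟨hpar 0 h0, huv, hinj (by rw [hd, map_one])⟩⟩
  · refine ⟨u * hz.W, Or.inr ⟨?_, fun v => ?_, hinj (by rw [hd, map_neg, map_one])⟩⟩
    · rw [Units.val_mul]
      simpa using SetLike.mul_mem_graded (hpar 1 h1) hz.W_mem
    · rw [Units.val_mul, mul_assoc, ← neg_neg ((hz.W : CliffordAlgebra Q) * ι Q v), ← hz.anti_W, mul_neg, ← mul_assoc,
        huv, mul_assoc]

theorem exists_versor [IsLocalRing R] [Module.Free R M] [Module.Finite R M] (hQ : QuadGrp.IsRegular Q) {m : ℕ}
    (hM : Module.finrank R M = 2 * m) {g : M ≃ₗ[R] M} (hg : g ∈ QuadGrp.O Q) : Versor Q g :=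
  exists_versor_of_ext hQ hM hg (Nag R) (nag_injective R) (nag_infinite R)

end Groth.Misc12.Cliff
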