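import Groth.Agent.Misc12.Cliff.Basic
import Mathlib.RingTheory.LocalRing.ResidueField.Basic
import Mathlib.RingTheory.LocalRing.Module
import Mathlib.RingTheory.Nakayama
import Mathlib.LinearAlgebra.Dimension.Constructions

/-!
Regular quadratic forms of even rank over local rings split into binary planes; the resulting even element `z` with
`v z + z v = v` and `z² - z` scalar.
-/

set_option autoImplicit false
set_option linter.unusedSectionVars false

noncomputable section

open QuadraticMap CliffordAlgebra

universe u v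

namespace Groth.Misc12.Cliff

variable {R : Type u} [CommRing R] {M : Type v} [AddCommGroup M] [Module R M]

/-- An orthogonal family of regular planes. -/
structure Planes (Q : QuadraticForm R M) (k : ℕ) where
  a : Fin k → M
  b : Fin k → M
  ab : ∀ i, polar Q (a i) (b i) = 1
  aa : ∀ i j, i ≠ j → polar Q (a i) (a j) = 0
  bb : ∀ i j, i ≠ j → polar Q (b i) (b j) = 0
  ab' : ∀ i j, i ≠ j → polar Q (a i) (b j) = 0
  disc : ∀ i, IsUnit (1 - 4 * Q (a i) * Q (b i))
  aniso : ∀ i, IsUnit (Q (a i))

variable {Q : QuadraticForm R M} {k : ℕ}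

namespace Planes

variable (P : Planes Q k)

theorem ba (i : Fin k) : polar Q (P.b i) (P.a i) = 1 := by rw [polar_comm]; exact P.ab i

theorem ba' (i j : Fin k) (h : i ≠ j) : polar Q (P.b i) (P.a j) = 0 := by rw [polar_comm]; exact P.ab' j i h.symm

/-- Inverse of the Gram determinant of a plane, up to sign. -/
def c (i : Fin k) : R := ((P.disc i).unit⁻¹ : Rˣ)

theorem c_mul (i : Fin k) : P.c i * (1 - 4 * Q (P.a i) * Q (P.b i)) = 1 := (P.disc i).val_inv_mul

/-- Coordinates along the planes. -/
def coA (i : Fin k) : Module.Dual R M :=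
  P.c i • (Q.polarBilin (P.b i) - (2 * Q (P.b i)) • Q.polarBilin (P.a i))

def coB (i : Fin k) : Module.Dual R M :=
  P.c i • (Q.polarBilin (P.a i) - (2 * Q (P.a i)) • Q.polarBilin (P.b i))

theorem coA_apply (i : Fin k) (v : M) :
    P.coA i v = P.c i * (polar Q (P.b i) v - 2 * Q (P.b i) * polar Q (P.a i) v) := rfl

theorem coB_apply (i : Fin k) (v : M) :
    P.coB i v = P.c i * (polar Q (P.a i) v - 2 * Q (P.a i) * polar Q (P.b i) v) := rfl

/-- The component along the planes. -/
def proj : M →ₗ[R] M := ∑ i, ((P.coA i).smulRight (P.a i) + (P.coB i).smulRight (P.b i))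

theorem proj_apply (v : M) : P.proj v = ∑ i, (P.coA i v • P.a i + P.coB i v • P.b i) := by
  simp [proj, LinearMap.sum_apply]

theorem polar_proj_a (i : Fin k) (v : M) : polar Q (P.a i) (P.proj v) = polar Q (P.a i) v := by
  rw [proj_apply, ← polarBilin_apply_apply, map_sum, Finset.sum_eq_single i]
  · simp only [map_add, map_smul, polarBilin_apply_apply, polar_self, P.ab, smul_eq_mul, P.coA_apply, P.coB_apply]
    linear_combination (norm := ring) polar Q (P.a i) v * P.c_mul i
  · intro j _ h
    simp only [map_add, map_smul, polarBilin_apply_apply, P.aa i j h.symm, P.ab' i j h.symm, smul_zero, add_zero]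
  · simp

theorem polar_proj_b (i : Fin k) (v : M) : polar Q (P.b i) (P.proj v) = polar Q (P.b i) v := by
  rw [proj_apply, ← polarBilin_apply_apply, map_sum, Finset.sum_eq_single i]
  · simp only [map_add, map_smul, polarBilin_apply_apply, polar_self, P.ba, smul_eq_mul, P.coA_apply, P.coB_apply]
    linear_combination (norm := ring) polar Q (P.b i) v * P.c_mul i
  · intro j _ h
    simp only [map_add, map_smul, polarBilin_apply_apply, P.bb i j h.symm, P.ba' i j h.symm, smul_zero, add_zero]
  · simp

/-- The component orthogonal to the planes. -/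
def res : M →ₗ[R] M := LinearMap.id - P.proj

theorem res_apply (v : M) : P.res v = v - P.proj v := rfl

theorem polar_a_res (i : Fin k) (v : M) : polar Q (P.a i) (P.res v) = 0 := by
  rw [res_apply, ← polarBilin_apply_apply, map_sub, polarBilin_apply_apply, polarBilin_apply_apply, polar_proj_a, sub_self]

theorem polar_b_res (i : Fin k) (v : M) : polar Q (P.b i) (P.res v) = 0 := by
  rw [res_apply, ← polarBilin_apply_apply, map_sub, polarBilin_apply_apply, polarBilin_apply_apply, polar_proj_b, sub_self]

theorem polar_res (x v : M) (ha : ∀ i, polar Q (P.a i) x = 0) (hb : ∀ i, polar Q (P.b i) x = 0) :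
    polar Q x (P.res v) = polar Q x v := by
  rw [res_apply, ← polarBilin_apply_apply, map_sub, proj_apply, map_sum, Finset.sum_eq_zero, sub_zero,
    polarBilin_apply_apply]
  intro i _
  simp only [map_add, map_smul, polarBilin_apply_apply, polar_comm _ x, ha, hb, smul_zero, add_zero]

/-- With as many planes as half the rank, the planes span. -/
theorem sum_eq [Module.Free R M] [Module.Finite R M] (hM : Module.finrank R M = 2 * k) (v : M) :
    ∑ i, (P.coA i v • P.a i + P.coB i v • P.b i) = v := by
  rcases subsingleton_or_nontrivial R with h | h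
  · haveI := Module.subsingleton R M
    exact Subsingleton.elim _ _
  let co : M →ₗ[R] (Fin k ⊕ Fin k → R) := LinearMap.pi (Sum.elim P.coA P.coB)
  have hsurj : Function.Surjective co := by
    intro f
    refine ⟨∑ i, (f (Sum.inl i) • P.a i + f (Sum.inr i) • P.b i), funext fun s => ?_⟩
    rcases s with i | i
    · change P.coA i _ = _
      rw [P.coA_apply, ← polarBilin_apply_apply, ← polarBilin_apply_apply, map_sum, map_sum,
        Finset.sum_eq_single i, Finset.sum_eq_single i]
      · simp only [map_add, map_smul, polarBilin_apply_apply, polar_self, P.ab, P.ba, smul_eq_mul]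
        linear_combination (norm := ring) f (Sum.inl i) * P.c_mul i
      all_goals first
        | (intro hh; exact absurd (Finset.mem_univ i) hh)
        | (intro j _ hj; simp only [map_add, map_smul, polarBilin_apply_apply, P.aa i j hj.symm, P.bb i j hj.symm,
            P.ab' i j hj.symm, P.ba' i j hj.symm, smul_zero, add_zero])
    · change P.coB i _ = _
      rw [P.coB_apply, ← polarBilin_apply_apply, ← polarBilin_apply_apply, map_sum, map_sum,
        Finset.sum_eq_single i, Finset.sum_eq_single i]
      · simp only [map_add, map_smul, polarBilin_apply_apply, polar_self, P.ab, P.ba, smul_eq_mul]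
        linear_combination (norm := ring) f (Sum.inr i) * P.c_mul i
      all_goals first
        | (intro hh; exact absurd (Finset.mem_univ i) hh)
        | (intro j _ hj; simp only [map_add, map_smul, polarBilin_apply_apply, P.aa i j hj.symm, P.bb i j hj.symm,
            P.ab' i j hj.symm, P.ba' i j hj.symm, smul_zero, add_zero])
  let e : M ≃ₗ[R] (Fin k ⊕ Fin k → R) :=
    LinearEquiv.ofFinrankEq M (Fin k ⊕ Fin k → R) (by simp [hM, two_mul])
  have hinj : Function.Injective co := by
    have := OrzechProperty.injective_of_surjective_endomorphism (e.symm.toLinearMap ∘ₗ co) (e.symm.surjective.comp hsurj)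
    exact fun x y h => this (by simp [h])
  apply hinj
  rw [← P.proj_apply]
  refine funext fun s => ?_
  rcases s with i | i
  · change P.coA i _ = P.coA i v
    rw [P.coA_apply, P.coA_apply, polar_proj_a, polar_proj_b]
  · change P.coB i _ = P.coB i v
    rw [P.coB_apply, P.coB_apply, polar_proj_a, polar_proj_b]

/-- Adjoining an orthogonal plane. -/
def snoc (a b : M) (ha0 : ∀ i, polar Q (P.a i) a = 0) (hb0 : ∀ i, polar Q (P.b i) a = 0)
    (hab : ∀ i, polar Q (P.a i) b = 0) (hbb : ∀ i, polar Q (P.b i) b = 0) (h1 : polar Q a b = 1)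
    (hd : IsUnit (1 - 4 * Q a * Q b)) (hv : IsUnit (Q a)) : Planes Q (k + 1) := by
  refine ⟨Fin.snoc P.a a, Fin.snoc P.b b, ?_, ?_, ?_, ?_, ?_, ?_⟩
  · intro i
    induction i using Fin.lastCases with
    | last => simpa using h1
    | cast i => simpa using P.ab i
  · intro i j hij
    induction i using Fin.lastCases with
    | last =>
      induction j using Fin.lastCases with
      | last => exact absurd rfl hij
      | cast j => simp only [Fin.snoc_last, Fin.snoc_castSucc]; rw [polar_comm]; exact ha0 j
    | cast i =>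
      induction j using Fin.lastCases with
      | last => simpa using ha0 i
      | cast j => simpa using P.aa i j (fun h => hij (by rw [h]))
  · intro i j hij
    induction i using Fin.lastCases with
    | last =>
      induction j using Fin.lastCases with
      | last => exact absurd rfl hij
      | cast j => simp only [Fin.snoc_last, Fin.snoc_castSucc]; rw [polar_comm]; exact hbb j
    | cast i =>
      induction j using Fin.lastCases with
      | last => simpa using hbb i
      | cast j => simpa using P.bb i j (fun h => hij (by rw [h]))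
  · intro i j hij
    induction i using Fin.lastCases with
    | last =>
      induction j using Fin.lastCases with
      | last => exact absurd rfl hij
      | cast j => simp only [Fin.snoc_last, Fin.snoc_castSucc]; rw [polar_comm]; exact hb0 j
    | cast i =>
      induction j using Fin.lastCases with
      | last => simpa using hab i
      | cast j => simpa using P.ab' i j (fun h => hij (by rw [h]))
  · intro i
    induction i using Fin.lastCases with
    | last => simpa using hd
    | cast i => simpa using P.disc i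
  · intro i
    induction i using Fin.lastCases with
    | last => simpa using hv
    | cast i => simpa using P.aniso i

end Planes

/-! ### Existence over local rings -/

section Local

variable [IsLocalRing R] [Module.Free R M] [Module.Finite R M]

open IsLocalRing

theorem exists_polar_isUnit (hQ : QuadGrp.IsRegular Q) {x : M}
    (hx : x ∉ maximalIdeal R • (⊤ : Submodule R M)) : ∃ y, IsUnit (polar Q x y) := by
  by_contra h
  push Not at h
  let b := Module.Free.chooseBasis R M
  apply hx
  rw [← b.sum_repr x]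
  refine sum_mem fun i _ => Submodule.smul_mem_smul ?_ Submodule.mem_top
  obtain ⟨y, hy⟩ := hQ.2 (b.coord i)
  have := DFunLike.congr_fun hy x
  rw [polarBilin_apply_apply, Module.Basis.coord_apply, polar_comm] at this
  rw [← this]
  exact h y

theorem exists_of_res {s : ℕ} (hs : s < Module.finrank R M) (w : Fin s → M) (φ : M →ₗ[R] M)
    (hφ : ∀ v, v - φ v ∈ Submodule.span R (Set.range w)) : ∃ v, φ v ∉ maximalIdeal R • (⊤ : Submodule R M) := by
  by_contra h
  push Not at h
  have hle : (⊤ : Submodule R M) ≤ Submodule.span R (Set.range w) := by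
    refine Submodule.le_of_le_smul_of_le_jacobson_bot Module.Finite.fg_top (maximalIdeal_le_jacobson _) fun v _ => ?_
    rw [← sub_add_cancel v (φ v)]
    exact Submodule.add_mem_sup (hφ v) (h v)
  have := finrank_range_le_card (R := R) w
  rw [Set.finrank, top_le_iff.1 hle, finrank_top, Fintype.card_fin] at this
  omega

theorem exists_isUnit_of_isUnit_polar {x y : M} (h : IsUnit (polar Q x y)) :
    IsUnit (Q x) ∨ IsUnit (Q y) ∨ IsUnit (Q (x + y)) := by
  by_contra hh
  push Not at hh
  obtain ⟨hx, hy, hxy⟩ := hh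
  refine (mem_maximalIdeal _).1 ?_ h
  rw [polar]
  exact sub_mem (sub_mem hxy hx) hy

theorem Planes.exists_aniso (hQ : QuadGrp.IsRegular Q) {k : ℕ} (P : Planes Q k) {s : ℕ} (hs : s < Module.finrank R M)
    (w : Fin s → M) (φ : M →ₗ[R] M) (hφ : ∀ v, v - φ v ∈ Submodule.span R (Set.range w))
    (hφa : ∀ i v, polar Q (P.a i) (φ v) = 0) (hφb : ∀ i v, polar Q (P.b i) (φ v) = 0)
    (hφp : ∀ v u, polar Q (φ v) (φ u) = polar Q (φ v) u) :
    ∃ v, IsUnit (Q (φ v)) := by
  obtain ⟨v, hv⟩ := exists_of_res hs w φ hφ
  obtain ⟨y, hy⟩ := exists_polar_isUnit hQ hv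
  rw [← hφp] at hy
  rcases exists_isUnit_of_isUnit_polar hy with h | h | h
  · exact ⟨v, h⟩
  · exact ⟨y, h⟩
  · exact ⟨v + y, by rwa [map_add]⟩

theorem Planes.exists_succ (hQ : QuadGrp.IsRegular Q) {m k : ℕ} (hM : Module.finrank R M = 2 * m) (hk : k < m)
    (P : Planes Q k) : Nonempty (Planes Q (k + 1)) := by
  classical
  -- the vectors spanning what has been found
  let w : Fin (k + k) → M := Fin.append P.a P.b
  have hproj : ∀ v, P.proj v ∈ Submodule.span R (Set.range w) := fun v => by
    rw [P.proj_apply]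
    refine sum_mem fun i _ => add_mem (Submodule.smul_mem _ _ (Submodule.subset_span ⟨Fin.castAdd k i, ?_⟩))
      (Submodule.smul_mem _ _ (Submodule.subset_span ⟨Fin.natAdd k i, ?_⟩))
    · simp only [w, Fin.append_left]
    · simp only [w, Fin.append_right]
  obtain ⟨v, hv⟩ := P.exists_aniso hQ (show k + k < _ by omega) w P.res
    (fun v => by rw [P.res_apply, sub_sub_cancel]; exact hproj v) P.polar_a_res P.polar_b_res
    (fun v u => P.polar_res _ _ (fun i => P.polar_a_res i v) fun i => P.polar_b_res i v)
  set a := P.res v with ha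
  have ha0 : ∀ i, polar Q (P.a i) a = 0 := fun i => P.polar_a_res i v
  have hb0 : ∀ i, polar Q (P.b i) a = 0 := fun i => P.polar_b_res i v
  -- a partner
  have haM : a ∉ maximalIdeal R • (⊤ : Submodule R M) := by
    intro h
    refine (mem_maximalIdeal _).1 ?_ hv
    suffices H : Q a ∈ maximalIdeal R ∧ ∀ y, polar Q a y ∈ maximalIdeal R from H.1
    refine Submodule.smul_induction_on h (fun r hr x _ => ⟨?_, fun y => ?_⟩) fun x y hx hy => ⟨?_, fun z => ?_⟩
    · rw [QuadraticMap.map_smul, smul_eq_mul, mul_assoc]
      exact Ideal.mul_mem_right _ _ hr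
    · rw [polar_smul_left, smul_eq_mul]
      exact Ideal.mul_mem_right _ _ hr
    · rw [QuadraticMap.map_add (⇑Q)]
      exact add_mem (add_mem hx.1 hy.1) (hx.2 y)
    · rw [polar_add_left]
      exact add_mem (hx.2 z) (hy.2 z)
  obtain ⟨y, hy⟩ := exists_polar_isUnit hQ haM
  set b₁ := P.res ((↑hy.unit⁻¹ : R) • y) with hb₁
  have hab₁ : polar Q a b₁ = 1 := by
    rw [hb₁, P.polar_res _ _ ha0 hb0, polar_smul_right, smul_eq_mul, IsUnit.val_inv_mul]
  -- extending by a plane orthogonal to the ones found
  have ext : ∀ b : M, (∀ i, polar Q (P.a i) b = 0) → (∀ i, polar Q (P.b i) b = 0) → polar Q a b = 1 →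
      IsUnit (1 - 4 * Q a * Q b) → Nonempty (Planes Q (k + 1)) :=
    fun b hab hbb h1 hd => ⟨P.snoc a b ha0 hb0 hab hbb h1 hd hv⟩
  by_cases hd : IsUnit (1 - 4 * Q a * Q b₁)
  · exact ext b₁ (fun i => P.polar_a_res i _) (fun i => P.polar_b_res i _) hab₁ hd
  have h2 : IsUnit (2 : R) := by
    by_contra h
    rw [← mem_nonunits_iff, ← mem_maximalIdeal] at h
    apply hd
    refine notMem_maximalIdeal.1 fun hm => (maximalIdeal R).ne_top_iff_one.1 (Ideal.IsPrime.ne_top inferInstance) ?_
    have := add_mem hm (Ideal.mul_mem_right (2 * Q a * Q b₁) _ h)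
    rwa [show (1 : R) - 4 * Q a * Q b₁ + 2 * (2 * Q a * Q b₁) = 1 by ring] at this
  set t : R := ↑(h2.mul hv).unit⁻¹ with ht
  have ht1 : t * (2 * Q a) = 1 := (h2.mul hv).val_inv_mul
  let φ : M →ₗ[R] M := P.res - (t • (Q.polarBilin a)).smulRight a
  have hφ : ∀ v, φ v = P.res v - (t * polar Q a v) • a := fun v => rfl
  have hφa : ∀ v, polar Q a (φ v) = 0 := by
    intro v
    rw [hφ, sub_eq_add_neg, ← neg_smul, polar_add_right, P.polar_res _ _ ha0 hb0, polar_smul_right, polar_self, smul_eq_mul,
      nsmul_eq_mul, Nat.cast_ofNat]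
    linear_combination (-polar Q a v) * ht1
  have hφi : ∀ i v, polar Q (P.a i) (φ v) = 0 ∧ polar Q (P.b i) (φ v) = 0 := by
    intro i v
    constructor <;>
      rw [hφ, sub_eq_add_neg, ← neg_smul, polar_add_right, polar_smul_right] <;>
      simp [P.polar_a_res, P.polar_b_res, ha0, hb0]
  obtain ⟨v', hv'⟩ := P.exists_aniso hQ (show k + k + 1 < _ by omega) (Fin.snoc w a) φ (fun v => by
      rw [hφ, P.res_apply, show v - (v - P.proj v - (t * polar Q a v) • a) = P.proj v + (t * polar Q a v) • a by abel]
      refine add_mem (Submodule.span_mono ?_ (hproj v)) (Submodule.smul_mem _ _ (Submodule.subset_span ⟨Fin.last _, by simp⟩))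
      rintro _ ⟨i, rfl⟩
      exact ⟨i.castSucc, by simp⟩)
    (fun i v => (hφi i v).1) (fun i v => (hφi i v).2) (fun v u => by
      rw [hφ u, sub_eq_add_neg, ← neg_smul, polar_add_right, polar_smul_right, polar_comm _ (φ v) a, hφa, smul_zero,
        add_zero, P.polar_res _ _ (fun i => (hφi i v).1) (fun i => (hφi i v).2)])
  refine ext (t • a + φ v') (fun i => ?_) (fun i => ?_) ?_ ?_
  · rw [polar_add_right, polar_smul_right, ha0, smul_zero, zero_add, (hφi i v').1]
  · rw [polar_add_right, polar_smul_right, hb0, smul_zero, zero_add, (hφi i v').2]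
  · rw [polar_add_right, polar_smul_right, polar_self, hφa, add_zero, smul_eq_mul, nsmul_eq_mul, Nat.cast_ofNat]
    exact ht1
  · have : (1 : R) - 4 * Q a * Q (t • a + φ v') = -((2 * 2) * (Q a * Q (φ v'))) := by
      rw [QuadraticMap.map_add (⇑Q), QuadraticMap.map_smul, polar_smul_left, hφa, smul_zero, add_zero, smul_eq_mul]
      linear_combination (-(t * (2 * Q a)) - 1) * ht1
    rw [this]
    exact ((h2.mul h2).mul (hv.mul hv')).neg

theorem exists_planes (hQ : QuadGrp.IsRegular Q) {m : ℕ} (hM : Module.finrank R M = 2 * m) : Nonempty (Planes Q m) := by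
  suffices H : ∀ k ≤ m, Nonempty (Planes Q k) from H m le_rfl
  intro k hk
  induction k with
  | zero => exact ⟨⟨Fin.elim0, Fin.elim0, fun i => i.elim0, fun i => i.elim0, fun i => i.elim0, fun i => i.elim0,
      fun i => i.elim0, fun i => i.elim0⟩⟩
  | succ k ih =>
    obtain ⟨P⟩ := ih (by omega)
    exact P.exists_succ hQ hM (by omega)

end Local

/-! ### The element `z` -/

/-- `z` is even, `v z + z v = v` for every vector and `z² - z` is a scalar `q` with `1 + 4 q` a unit. -/
structure IsZ (Q : QuadraticForm R M) (z : CliffordAlgebra Q) : Prop where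
  even : z ∈ evenOdd Q 0
  anti : ∀ v, ι Q v * z + z * ι Q v = ι Q v
  sq : ∃ q : R, IsUnit (1 + 4 * q) ∧ z * z = z + algebraMap R _ q

theorem Planes.exists_isZ [Module.Free R M] [Module.Finite R M] {m : ℕ} (P : Planes Q m)
    (hM : Module.finrank R M = 2 * m) : ∃ z, IsZ Q z := by
  classical
  set e : Fin m → CliffordAlgebra Q := fun i => ι Q (P.a i) * ι Q (P.b i) with he
  have hsw : ∀ x y, polar Q x y = 0 → ι Q x * ι Q y = -(ι Q y * ι Q x) := fun x y h =>
    eq_neg_of_add_eq_zero_left (by rw [ι_mul_ι_add_swap, h, map_zero])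
  have hba : ∀ i, ι Q (P.b i) * ι Q (P.a i) = 1 - ι Q (P.a i) * ι Q (P.b i) := fun i => by
    rw [eq_sub_iff_add_eq, ι_mul_ι_add_swap, P.ba, map_one]
  have hcom : ∀ i x, polar Q x (P.a i) = 0 → polar Q x (P.b i) = 0 → Commute (ι Q x) (e i) := fun i x h1 h2 => by
    change _ = _
    rw [he, ← mul_assoc, hsw _ _ h1, neg_mul, mul_assoc, hsw _ _ h2, mul_neg, neg_neg, mul_assoc]
  suffices H : ∀ s : Finset (Fin m), ∃ z : CliffordAlgebra Q, z ∈ evenOdd Q 0 ∧
      (∀ i ∈ s, ι Q (P.a i) * z + z * ι Q (P.a i) = ι Q (P.a i) ∧ ι Q (P.b i) * z + z * ι Q (P.b i) = ι Q (P.b i)) ∧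
      (∀ i ∉ s, Commute (ι Q (P.a i)) z ∧ Commute (ι Q (P.b i)) z) ∧
      ∃ q : R, IsUnit (1 + 4 * q) ∧ z * z = z + algebraMap R _ q by
    obtain ⟨z, h0, h1, -, h3⟩ := H Finset.univ
    refine ⟨z, h0, fun v => ?_, h3⟩
    conv_lhs => rw [← P.sum_eq hM v]
    simp only [map_sum, map_add, map_smul, Finset.sum_mul, Finset.mul_sum, add_mul, mul_add, smul_mul_assoc,
      mul_smul_comm, ← Finset.sum_add_distrib]
    conv_rhs => rw [← P.sum_eq hM v]
    simp only [map_sum, map_add, map_smul]
    refine Finset.sum_congr rfl fun i _ => ?_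
    rw [← (h1 i (Finset.mem_univ i)).1, ← (h1 i (Finset.mem_univ i)).2, smul_add, smul_add]
    rw [(h1 i (Finset.mem_univ i)).1, (h1 i (Finset.mem_univ i)).2]
    rw [add_add_add_comm]
  intro s
  induction s using Finset.induction with
  | empty => exact ⟨0, zero_mem _, by simp, fun i _ => ⟨Commute.zero_right _, Commute.zero_right _⟩, 0, by simp, by simp⟩
  | insert j s hj ih =>
    obtain ⟨z, hz0, hz1, hz2, q, hq, hzq⟩ := ih
    have hze : Commute z (e j) := ((hz2 j hj).1.mul_left (hz2 j hj).2).symm
    have hej : e j * e j = e j + algebraMap R _ (-(Q (P.a j) * Q (P.b j))) := by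
      simp only [he]
      rw [mul_assoc, ← mul_assoc (ι Q (P.b j)), hba, sub_mul, one_mul, mul_sub, mul_assoc, ι_sq_scalar, ← mul_assoc,
        ι_sq_scalar, ← map_mul (algebraMap R (CliffordAlgebra Q)), map_neg, sub_eq_add_neg]
    refine ⟨z + e j - 2 • (z * e j), ?_, fun i hi => ?_, fun i hi => ?_, ?_⟩
    · exact sub_mem (add_mem hz0 (ι_mul_ι_mem_evenOdd_zero Q _ _))
        (nsmul_mem (by simpa using SetLike.mul_mem_graded hz0 (ι_mul_ι_mem_evenOdd_zero Q (P.a j) (P.b j))) _)
    · have gen : ∀ x, ι Q x * (z + e j - 2 • (z * e j)) + (z + e j - 2 • (z * e j)) * ι Q x =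
          (ι Q x * z + z * ι Q x) + (ι Q x * e j + e j * ι Q x) - 2 • (ι Q x * z * e j + z * e j * ι Q x) := fun x => by
        simp only [two_nsmul, mul_add, add_mul, mul_sub, sub_mul, mul_assoc]
        abel
      rcases Finset.mem_insert.1 hi with rfl | hi'
      · have ha : ι Q (P.a i) * e i + e i * ι Q (P.a i) = ι Q (P.a i) := by
          simp only [he]; rw [mul_assoc _ (ι Q (P.b i)), hba, mul_sub, mul_one]; abel
        have hb : ι Q (P.b i) * e i + e i * ι Q (P.b i) = ι Q (P.b i) := by
          simp only [he]; rw [← mul_assoc, hba, sub_mul, one_mul]; abel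
        constructor
        · have hh : ι Q (P.a i) * z * e i + z * e i * ι Q (P.a i) = z * ι Q (P.a i) := by
            rw [(hz2 i hj).1.eq, mul_assoc, mul_assoc, ← mul_add, ha]
          rw [gen, ha, hh, (hz2 i hj).1.eq, two_nsmul]; abel
        · have hh : ι Q (P.b i) * z * e i + z * e i * ι Q (P.b i) = z * ι Q (P.b i) := by
            rw [(hz2 i hj).2.eq, mul_assoc, mul_assoc, ← mul_add, hb]
          rw [gen, hb, hh, (hz2 i hj).2.eq, two_nsmul]; abel
      · have hne : i ≠ j := fun h => hj (h ▸ hi')
        have ca := hcom j (P.a i) (P.aa i j hne) (P.ab' i j hne)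
        have cb := hcom j (P.b i) (P.ba' i j hne) (P.bb i j hne)
        constructor
        · have hh : ι Q (P.a i) * z * e j + z * e j * ι Q (P.a i) = ι Q (P.a i) * e j := by
            rw [mul_assoc z, ← ca.eq, ← mul_assoc z, ← add_mul, (hz1 i hi').1]
          rw [gen, hh, (hz1 i hi').1, two_nsmul, ca.eq]; abel
        · have hh : ι Q (P.b i) * z * e j + z * e j * ι Q (P.b i) = ι Q (P.b i) * e j := by
            rw [mul_assoc z, ← cb.eq, ← mul_assoc z, ← add_mul, (hz1 i hi').2]
          rw [gen, hh, (hz1 i hi').2, two_nsmul, cb.eq]; abel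
    · rw [Finset.mem_insert, not_or] at hi
      have ca := hcom j (P.a i) (P.aa i j hi.1) (P.ab' i j hi.1)
      have cb := hcom j (P.b i) (P.ba' i j hi.1) (P.bb i j hi.1)
      exact ⟨((hz2 i hi.2).1.add_right ca).sub_right (((hz2 i hi.2).1.mul_right ca).smul_right 2),
        ((hz2 i hi.2).2.add_right cb).sub_right (((hz2 i hi.2).2.mul_right cb).smul_right 2)⟩
    · refine ⟨q + -(Q (P.a j) * Q (P.b j)) + 4 * q * -(Q (P.a j) * Q (P.b j)), ?_, ?_⟩
      · have := hq.mul (P.disc j)
        convert this using 1
        ring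
      · have hc : e j * z = z * e j := hze.eq.symm
        have hc' : ∀ y, e j * (z * y) = z * (e j * y) := fun y => by rw [← mul_assoc, hc, mul_assoc]
        have hzq' : ∀ y, z * (z * y) = z * y + q • y := fun y => by
          rw [← mul_assoc, hzq, add_mul, ← Algebra.smul_def]
        have hej' : ∀ y, e j * (e j * y) = e j * y + (-(Q (P.a j) * Q (P.b j))) • y := fun y => by
          rw [← mul_assoc, hej, add_mul, ← Algebra.smul_def]
        simp only [two_nsmul, mul_add, add_mul, mul_sub, sub_mul, mul_assoc, hc, hc', hzq, hzq', hej, hej',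
          Algebra.algebraMap_eq_smul_one, mul_smul_comm, smul_mul_assoc, mul_one, one_mul]
        module

end Groth.Misc12.Cliff
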