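import Groth.Agent.Misc12.Cliff.Basic
import Mathlib.Algebra.Azumaya.Defs
import Mathlib.LinearAlgebra.TensorProduct.Basis
import Mathlib.LinearAlgebra.Matrix.ToLin

/-!
A Clifford algebra of a regular form with a unit anticommuting with all vectors is Azumaya; the resulting
separability element and the projections onto twisted centralisers.
-/

set_option autoImplicit false
set_option linter.unusedSectionVars false

noncomputable section

open scoped TensorProduct
open CliffordAlgebra MulOpposite

universe u v w w'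

namespace Groth.Misc12.Cliff

variable {R : Type u} [CommRing R]

section Op

variable {C : Type v} [Ring C] [Algebra R C] {C' : Type w} [Ring C'] [Algebra R C'] {C'' : Type w'} [Ring C''] [Algebra R C'']

/-- `a ⊗ b ↦ (y ↦ α a * y * β b)`. -/
def sand (α β : C →ₐ[R] C') : (C ⊗[R] Cᵐᵒᵖ) →ₐ[R] Module.End R C' :=
  (AlgHom.mulLeftRight R C').comp (Algebra.TensorProduct.map α (AlgHom.op β))

theorem sand_tmul (α β : C →ₐ[R] C') (a : C) (b : Cᵐᵒᵖ) (y : C') :
    sand α β (a ⊗ₜ b) y = α a * y * β b.unop := by
  simp [sand, AlgHom.mulLeftRight_apply]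

theorem map_sand (γ : C' →ₐ[R] C'') (α β : C →ₐ[R] C') (q : C ⊗[R] Cᵐᵒᵖ) (y : C') :
    γ (sand α β q y) = sand (γ.comp α) (γ.comp β) q (γ y) := by
  induction q using TensorProduct.induction_on with
  | zero => simp
  | tmul a b => simp [sand_tmul, mul_assoc]
  | add q r hq hr => simp only [map_add, LinearMap.add_apply, hq, hr]

theorem sand_fix (α β : C →ₐ[R] C') (q : C ⊗[R] Cᵐᵒᵖ) {u : C'} (hu : ∀ x, α x * u = u * β x) :
    sand α β q u = u * β (sand (AlgHom.id R C) (AlgHom.id R C) q 1) := by
  induction q using TensorProduct.induction_on with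
  | zero => simp
  | tmul a b => simp [sand_tmul, hu, mul_assoc]
  | add q r hq hr => simp only [map_add, LinearMap.add_apply, hq, hr, mul_add]

theorem sand_smul {A : Type*} [CommSemiring A] [Algebra A C'] (α β : C →ₐ[R] C') (q : C ⊗[R] Cᵐᵒᵖ) (c : A) (y : C') :
    sand α β q (c • y) = c • sand α β q y := by
  induction q using TensorProduct.induction_on with
  | zero => simp
  | tmul a b => simp [sand_tmul, mul_assoc]
  | add q r hq hr => simp only [map_add, LinearMap.add_apply, hq, hr, smul_add]

/-- A separability element. -/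
structure IsSep (p : C ⊗[R] Cᵐᵒᵖ) : Prop where
  comm : ∀ x : C, (x ⊗ₜ[R] (1 : Cᵐᵒᵖ)) * p = ((1 : C) ⊗ₜ[R] op x) * p
  unit : sand (AlgHom.id R C) (AlgHom.id R C) p 1 = 1
  scalar : ∀ y, sand (AlgHom.id R C) (AlgHom.id R C) p y ∈ Set.range (algebraMap R C)

theorem IsSep.twist {p : C ⊗[R] Cᵐᵒᵖ} (hp : IsSep p) (α β : C →ₐ[R] C') (x : C) (y : C') :
    α x * sand α β p y = sand α β p y * β x := by
  have h := congrArg (fun q => sand α β q y) (hp.comm x)
  simpa [map_mul, sand_tmul] using h

theorem IsSep.fix {p : C ⊗[R] Cᵐᵒᵖ} (hp : IsSep p) (α β : C →ₐ[R] C') {u : C'} (hu : ∀ x, α x * u = u * β x) :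
    sand α β p u = u := by
  rw [sand_fix α β p hu, hp.unit, map_one, mul_one]

theorem IsSep.center {p : C ⊗[R] Cᵐᵒᵖ} (hp : IsSep p) {c : C} (hc : ∀ x, x * c = c * x) :
    c ∈ Set.range (algebraMap R C) := by
  have := hp.scalar c
  rwa [hp.fix _ _ (by simpa using hc)] at this

end Op

section Clifford

variable {M : Type v} [AddCommGroup M] [Module R M] [Module.Free R M] [Module.Finite R M]
variable (Q : QuadraticForm R M)

theorem sand_id_bijective (hQ : QuadGrp.IsRegular Q) (W : (CliffordAlgebra Q)ˣ)
    (hW : ∀ v, ι Q v * (W : CliffordAlgebra Q) = -((W : CliffordAlgebra Q) * ι Q v)) :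
    Function.Bijective (sand (AlgHom.id R (CliffordAlgebra Q)) (AlgHom.id R (CliffordAlgebra Q))) ∧
      ∃ p : CliffordAlgebra Q ⊗[R] (CliffordAlgebra Q)ᵐᵒᵖ, IsSep p := by
  classical
  set μ := sand (AlgHom.id R (CliffordAlgebra Q)) (AlgHom.id R (CliffordAlgebra Q)) with hμ
  let b := Module.Free.chooseBasis R M
  let L : Module.Free.ChooseBasisIndex R M → Module.End R (CliffordAlgebra Q) := fun i => LinearMap.mulLeft R (ι Q (b i))
  let D : Module.Free.ChooseBasisIndex R M → Module.End R (CliffordAlgebra Q) := fun i => contractLeft (b.coord i)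
  have hL : ∀ x : (CliffordAlgebra Q), LinearMap.mulLeft R x ∈ μ.range := fun x =>
    ⟨x ⊗ₜ 1, LinearMap.ext fun y => by simp [μ, sand_tmul]⟩
  have hinv : (involute (Q := Q)).toLinearMap ∈ μ.range :=
    ⟨(W : (CliffordAlgebra Q)) ⊗ₜ op (↑W⁻¹ : (CliffordAlgebra Q)), LinearMap.ext fun y => by
      change μ ((W : (CliffordAlgebra Q)) ⊗ₜ op (↑W⁻¹ : (CliffordAlgebra Q))) y = _
      rw [sand_tmul, AlgHom.id_apply, AlgHom.id_apply, unop_op, mul_eq_involute_mul Q hW, Units.mul_inv_cancel_right]
      rfl⟩
  have hD : ∀ i, D i ∈ μ.range := by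
    intro i
    obtain ⟨v, hv⟩ := hQ.2 (b.coord i)
    have : D i = LinearMap.mulLeft R (ι Q v) - μ ((1 : (CliffordAlgebra Q)) ⊗ₜ op (ι Q v)) * (involute (Q := Q)).toLinearMap := by
      refine LinearMap.ext fun y => ?_
      simp only [D, ← hv, ← ι_mul_sub_involute_mul, LinearMap.sub_apply, LinearMap.mulLeft_apply, Module.End.mul_apply,
        AlgHom.toLinearMap_apply, μ, sand_tmul, AlgHom.id_apply, one_mul, unop_op]
    rw [this]
    exact sub_mem (hL _) (mul_mem ⟨_, rfl⟩ hinv)
  have hDL : ∀ i j, D i * L j = b.coord i (b j) • (1 : Module.End R (CliffordAlgebra Q)) - L j * D i := fun i j =>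
    LinearMap.ext fun y => by
      simp only [D, L, Module.End.mul_apply, LinearMap.mulLeft_apply, contractLeft_ι_mul, LinearMap.sub_apply,
        LinearMap.smul_apply, Module.End.one_apply]
  have hcoord : ∀ i j, i ≠ j → b.coord i (b j) = 0 := fun i j h => by
    rw [Module.Basis.coord_apply, b.repr_self, Finsupp.single_eq_of_ne h]
  have hone : ∀ i, b.coord i (b i) = 1 := fun i => by rw [Module.Basis.coord_apply, b.repr_self, Finsupp.single_eq_same]
  have hDD : ∀ i j, D i * D j = -(D j * D i) := fun i j => LinearMap.ext fun y => by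
    simp only [D, Module.End.mul_apply, LinearMap.neg_apply]
    exact contractLeft_comm _ _ y
  have hDD0 : ∀ i, D i * D i = 0 := fun i => LinearMap.ext fun y => by
    simp only [D, Module.End.mul_apply, LinearMap.zero_apply]
    exact contractLeft_contractLeft _ y
  let P : Module.Free.ChooseBasisIndex R M → Module.End R (CliffordAlgebra Q) := fun i => 1 - L i * D i
  let S : List (Module.Free.ChooseBasisIndex R M) → Module.End R (CliffordAlgebra Q) := fun l => (l.map P).prod
  have hDP : ∀ i, D i * P i = 0 := by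
    intro i
    simp only [P, mul_sub, mul_one, ← mul_assoc, hDL, hone, one_smul, sub_mul, one_mul]
    rw [mul_assoc, hDD0, mul_zero, sub_zero, sub_self]
  have hPD : ∀ i, P i * D i = D i := by
    intro i
    simp only [P, sub_mul, one_mul, mul_assoc, hDD0, mul_zero, sub_zero]
  have hcomm : ∀ i j, i ≠ j → D i * P j = P j * D i := by
    intro i j h
    refine LinearMap.ext fun y => ?_
    simp only [P, D, L, Module.End.mul_apply, LinearMap.sub_apply, Module.End.one_apply, LinearMap.mulLeft_apply,
      map_sub, contractLeft_ι_mul, hcoord i j h, zero_smul, zero_sub]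
    rw [contractLeft_comm (b.coord i) (b.coord j), mul_neg, neg_neg]
  have hDS : ∀ (l : List _), l.Nodup → ∀ i, (i ∈ l → D i * S l = 0) ∧ (i ∉ l → D i * S l = S l * D i) := by
    intro l hl i
    induction l with
    | nil => simp [S]
    | cons j l ih =>
      obtain ⟨hj, hl'⟩ := List.nodup_cons.1 hl
      have hS : S (j :: l) = P j * S l := by simp [S]
      refine ⟨fun hi => ?_, fun hi => ?_⟩
      · rcases List.mem_cons.1 hi with rfl | hi'
        · rw [hS, ← mul_assoc, hDP, zero_mul]
        · rw [hS, ← mul_assoc, hcomm i j (fun h => hj (h ▸ hi')), mul_assoc, (ih hl').1 hi', mul_zero]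
      · rw [List.mem_cons, not_or] at hi
        rw [hS, ← mul_assoc, hcomm i j hi.1, mul_assoc, (ih hl').2 hi.2, mul_assoc]
  let l₀ := (Finset.univ : Finset (Module.Free.ChooseBasisIndex R M)).toList
  have hS0 : ∀ y, S l₀ y ∈ Set.range (algebraMap R (CliffordAlgebra Q)) := by
    intro y
    refine mem_range_of_contract_eq_zero Q _ fun d => ?_
    rw [← b.sum_dual_apply_smul_coord d, map_sum, LinearMap.sum_apply]
    refine Finset.sum_eq_zero fun i _ => ?_
    rw [map_smul, LinearMap.smul_apply]
    have := DFunLike.congr_fun ((hDS l₀ (Finset.nodup_toList _) i).1 (by simp [l₀])) y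
    rw [Module.End.mul_apply] at this
    rw [show contractLeft (b.coord i) (S l₀ y) = D i (S l₀ y) from rfl, this, LinearMap.zero_apply, smul_zero]
  have hS1 : ∀ l, S l 1 = 1 := by
    intro l
    induction l with
    | nil => simp [S]
    | cons j l ih =>
      simp only [S, List.map_cons, List.prod_cons, Module.End.mul_apply] at ih ⊢
      rw [ih]
      simp [P, L, D, LinearMap.sub_apply]
  have hSmem : ∀ l, S l ∈ μ.range := by
    intro l
    refine list_prod_mem fun x hx => ?_
    obtain ⟨i, -, rfl⟩ := List.mem_map.1 hx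
    exact sub_mem (one_mem _) (mul_mem (hL _) (hD i))
  have hI0 : ∀ f : Module.End R (CliffordAlgebra Q), f * S l₀ ∈ μ.range := by
    intro f
    have : f * S l₀ = LinearMap.mulLeft R (f 1) * S l₀ := LinearMap.ext fun y => by
      obtain ⟨r, hr⟩ := hS0 y
      simp only [Module.End.mul_apply, LinearMap.mulLeft_apply, ← hr, Algebra.algebraMap_eq_smul_one, map_smul,
        mul_smul_comm, mul_one]
    rw [this]
    exact mul_mem (hL _) (hSmem l₀)
  have hI : ∀ l : List _, l.Nodup → (∀ f : Module.End R (CliffordAlgebra Q), f * S l ∈ μ.range) → ∀ f : Module.End R (CliffordAlgebra Q), f ∈ μ.range := by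
    intro l hl h
    induction l with
    | nil => intro f; simpa [S] using h f
    | cons i l ih =>
      obtain ⟨hi, hl'⟩ := List.nodup_cons.1 hl
      refine ih hl' fun f => ?_
      have hS : S (i :: l) = P i * S l := by simp [S]
      have : S l = S (i :: l) + L i * S (i :: l) * D i := by
        rw [hS, mul_assoc (L i), mul_assoc (P i), ← (hDS l hl' i).2 hi, ← mul_assoc (P i), hPD, ← mul_assoc]
        simp only [P, sub_mul, one_mul, sub_add_cancel]
      rw [this, mul_add, ← mul_assoc f (L i * S (i :: l)), ← mul_assoc f (L i)]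
      exact add_mem (h f) (mul_mem (h _) (hD i))
  have hsurj : Function.Surjective μ := fun f => hI l₀ (Finset.nodup_toList _) hI0 f
  have hbij : Function.Bijective μ := by
    refine ⟨?_, hsurj⟩
    haveI := free Q
    haveI := finite Q
    let c := Module.Free.chooseBasis R (CliffordAlgebra Q)
    let e1 := (c.tensorProduct (c.map (opLinearEquiv R : (CliffordAlgebra Q) ≃ₗ[R] (CliffordAlgebra Q)ᵐᵒᵖ))).equivFun
    let e2 := c.end.equivFun
    have h := OrzechProperty.injective_of_surjective_endomorphism
      ((e2.toLinearMap ∘ₗ μ.toLinearMap) ∘ₗ e1.symm.toLinearMap)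
      ((e2.surjective.comp hsurj).comp e1.symm.surjective)
    intro x y hxy
    refine e1.injective (h ?_)
    simp [hxy]
  obtain ⟨p, hp⟩ := hsurj (S l₀)
  refine ⟨hbij, p, fun x => hbij.1 (LinearMap.ext fun y => ?_), by rw [← hμ, hp]; exact hS1 _, fun y => by rw [← hμ, hp]; exact hS0 y⟩
  obtain ⟨r, hr⟩ := hS0 y
  simp only [map_mul, Module.End.mul_apply, hp, ← hr, μ, sand_tmul, AlgHom.id_apply, unop_op, unop_one, mul_one, one_mul]
  exact (Algebra.commutes r x).symm

end Clifford

end Groth.Misc12.Cliff
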